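import Groth.Agent.AgIsog.SimpleHom
import Groth.Agent.MaxAb.Main
import Groth.Agent.AVDeg.Torsion
import Groth.Agent.AVDeg.FiniteKer
import Groth.Agent.AVDeg.EulerDegenerate
import Groth.Agent.AVDeg.HomLattice

/-!
Finite products of abelian varieties and isogenies onto them.
-/

set_option autoImplicit false
set_option backward.isDefEq.respectTransparency false
set_option backward.isDefEq.respectTransparency.types false
set_option linter.style.haveILetI false
set_option linter.unusedSectionVars false
set_option maxHeartbeats 1000000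
set_option synthInstance.maxHeartbeats 200000

universe u

open CategoryTheory CategoryTheory.Limits MonoidalCategory CartesianMonoidalCategory MonObj GrpObj AlgebraicGeometry
open TopologicalSpace
open scoped CategoryTheory.Obj

noncomputable section

namespace Groth.Agent.AgIsog

variable {K : Type u} [Field K]

/-- A finite product of abelian varieties, with projections and inclusions. -/
structure ProdAV {n : ℕ} (B : Fin n → Over (Spec (CommRingCat.of K))) [∀ t, GrpObj (B t)] where
  P : Over (Spec (CommRingCat.of K))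
  grp : GrpObj P
  proper : IsProper P.hom
  geomInt : GeometricallyIntegral P.hom
  pr : ∀ t, P ⟶ B t
  inj : ∀ t, B t ⟶ P
  pr_hom : ∀ t, IsMonHom (pr t)
  inj_hom : ∀ t, IsMonHom (inj t)
  self : ∀ t, inj t ≫ pr t = 𝟙 (B t)
  other : ∀ s t, s ≠ t → inj t ≫ pr s = 1
  total : ∀ [IsCommMonObj P], ∏ t, (pr t ≫ inj t) = 𝟙 P

theorem nonempty_prodAV : ∀ {n : ℕ} (B : Fin n → Over (Spec (CommRingCat.of K))) [∀ t, GrpObj (B t)]
    [∀ t, IsProper (B t).hom] [∀ t, GeometricallyIntegral (B t).hom], Nonempty (ProdAV B) := by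
  intro n
  induction n with
  | zero =>
    intro B _ _ _
    haveI : IsProper (𝟙_ (Over (Spec (CommRingCat.of K)))).hom := inferInstanceAs (IsProper (𝟙 _))
    haveI : GeometricallyIntegral (𝟙_ (Over (Spec (CommRingCat.of K)))).hom :=
      MaxAb.geometricallyIntegral_id
    exact ⟨{ P := 𝟙_ _, grp := inferInstance, proper := ‹_›, geomInt := ‹_›,
             pr := fun t => t.elim0, inj := fun t => t.elim0, pr_hom := fun t => t.elim0,
             inj_hom := fun t => t.elim0, self := fun t => t.elim0, other := fun s => s.elim0,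
             total := Subsingleton.elim _ _ }⟩
  | succ n ih =>
    intro B _ _ _
    obtain ⟨D⟩ := ih (fun t => B t.succ)
    letI := D.grp
    haveI := D.proper
    haveI := D.geomInt
    haveI := D.pr_hom
    haveI := D.inj_hom
    haveI : IsCommMonObj (B 0) := isCommMonObj_of_isProper_of_geometricallyIntegral (B 0)
    haveI : IsCommMonObj D.P := isCommMonObj_of_isProper_of_geometricallyIntegral D.P
    haveI : IsProper (B 0 ⊗ D.P).hom := inferInstanceAs (IsProper (pullback.fst (B 0).hom D.P.hom ≫ (B 0).hom))
    haveI : GeometricallyIntegral (B 0 ⊗ D.P).hom :=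
      W7Cube.geometricallyIntegral_prod (IsPullback.of_hasPullback (B 0).hom D.P.hom) (B 0 ⊗ D.P).hom rfl
    let pr : ∀ t, B 0 ⊗ D.P ⟶ B t := Fin.cases (fst (B 0) D.P) (fun t => snd (B 0) D.P ≫ D.pr t)
    let inj : ∀ t, B t ⟶ B 0 ⊗ D.P := Fin.cases (lift (𝟙 (B 0)) 1) (fun t => lift 1 (D.inj t))
    refine ⟨{ P := B 0 ⊗ D.P, grp := inferInstance, proper := ‹_›, geomInt := ‹_›, pr := pr, inj := inj,
              pr_hom := ?_, inj_hom := ?_, self := ?_, other := ?_, total := ?_ }⟩
    · refine Fin.cases ?_ fun t => ?_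
      · show IsMonHom (fst (B 0) D.P); infer_instance
      · show IsMonHom (snd (B 0) D.P ≫ D.pr t); infer_instance
    · refine Fin.cases ?_ fun t => ?_
      · show IsMonHom (lift (𝟙 (B 0)) (1 : B 0 ⟶ D.P)); infer_instance
      · show IsMonHom (lift (1 : B t.succ ⟶ B 0) (D.inj t)); infer_instance
    · refine Fin.cases ?_ fun t => ?_
      · exact lift_fst _ _
      · show lift _ _ ≫ snd (B 0) D.P ≫ D.pr t = _
        rw [← Category.assoc, lift_snd, D.self]
    · intro s
      induction s using Fin.cases with
      | zero =>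
        intro t
        induction t using Fin.cases with
        | zero => exact fun h => absurd rfl h
        | succ t => exact fun _ => lift_fst _ _
      | succ s =>
        intro t
        induction t using Fin.cases with
        | zero =>
          intro _
          show lift _ _ ≫ snd (B 0) D.P ≫ D.pr s = 1
          rw [← Category.assoc, lift_snd, MonObj.one_comp]
        | succ t =>
          intro h
          show lift _ _ ≫ snd (B 0) D.P ≫ D.pr s = 1
          rw [← Category.assoc, lift_snd, D.other s t fun e => h (congrArg Fin.succ e)]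
    · intro _
      rw [Fin.prod_univ_succ]
      let Hf : (B 0 ⊗ D.P ⟶ B 0 ⊗ D.P) →* (B 0 ⊗ D.P ⟶ B 0) :=
        { toFun := fun x => x ≫ fst (B 0) D.P, map_one' := MonObj.one_comp _, map_mul' := fun x y => MonObj.mul_comp _ _ _ }
      let Hs : (B 0 ⊗ D.P ⟶ B 0 ⊗ D.P) →* (B 0 ⊗ D.P ⟶ D.P) :=
        { toFun := fun x => x ≫ snd (B 0) D.P, map_one' := MonObj.one_comp _, map_mul' := fun x y => MonObj.mul_comp _ _ _ }
      refine CartesianMonoidalCategory.hom_ext _ _ ?_ ?_
      · show Hf _ = _
        rw [map_mul, map_prod, Finset.prod_eq_one fun t _ => ?_, _root_.mul_one]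
        · show (fst (B 0) D.P ≫ lift (𝟙 (B 0)) (1 : B 0 ⟶ D.P)) ≫ fst (B 0) D.P = _
          rw [Category.assoc, lift_fst, Category.comp_id, Category.id_comp]
        · show ((snd (B 0) D.P ≫ D.pr t) ≫ lift (1 : B t.succ ⟶ B 0) (D.inj t)) ≫ fst (B 0) D.P = 1
          rw [Category.assoc, lift_fst, MonObj.comp_one]
      · show Hs _ = _
        rw [map_mul, map_prod]
        let H : (D.P ⟶ D.P) →* (B 0 ⊗ D.P ⟶ D.P) :=
          { toFun := fun x => snd (B 0) D.P ≫ x, map_one' := MonObj.comp_one _, map_mul' := fun x y => MonObj.comp_mul _ _ _ }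
        rw [show Hs (pr 0 ≫ inj 0) = 1 by
          show (fst (B 0) D.P ≫ lift (𝟙 (B 0)) (1 : B 0 ⟶ D.P)) ≫ snd (B 0) D.P = 1
          rw [Category.assoc, lift_snd, MonObj.comp_one], _root_.one_mul,
          Finset.prod_congr rfl (fun t _ => show Hs (pr t.succ ≫ inj t.succ) = H (D.pr t ≫ D.inj t) by
            show ((snd (B 0) D.P ≫ D.pr t) ≫ lift (1 : B t.succ ⟶ B 0) (D.inj t)) ≫ snd (B 0) D.P = _
            rw [Category.assoc, lift_snd, Category.assoc]
            rfl), ← map_prod, D.total]
        show snd (B 0) D.P ≫ 𝟙 D.P = _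
        rw [Category.comp_id, Category.id_comp]

/-- An isogeny between different abelian varieties has a quasi-inverse. -/
theorem exists_quasiInverse_of_isFinite {A B : Over (Spec (CommRingCat.of K))} [GrpObj A] [GrpObj B]
    [IsProper A.hom] [GeometricallyIntegral A.hom] [IsProper B.hom] [GeometricallyIntegral B.hom]
    (f : A ⟶ B) [IsMonHom f] [IsFinite f.left] [Surjective f.left] :
    ∃ (g : B ⟶ A) (_ : IsMonHom g) (d : ℕ), d ≠ 0 ∧ f ≫ g = 𝟙 A ^ d ∧ g ≫ f = 𝟙 B ^ d := by
  haveI : IsCommMonObj A := isCommMonObj_of_isProper_of_geometricallyIntegral A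
  haveI : IsCommMonObj B := isCommMonObj_of_isProper_of_geometricallyIntegral B
  haveI : Subsingleton (Spec (CommRingCat.of K)) := inferInstanceAs (Subsingleton (PrimeSpectrum K))
  haveI : IsIntegral A.left := GeometricallyIntegral.isIntegral_of_subsingleton A.hom
  haveI : IsIntegral B.left := GeometricallyIntegral.isIntegral_of_subsingleton B.hom
  haveI : GeometricallyConnected A.hom := W7See.geometricallyConnected_of_geometricallyIntegral A.hom
  haveI : GeometricallyConnected B.hom := W7See.geometricallyConnected_of_geometricallyIntegral B.hom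
  haveI : Flat f.left := GrpField.flat_of_surjective f
  haveI : IsLocallyNoetherian B.left := LocallyOfFiniteType.isLocallyNoetherian B.hom
  haveI : LocallyOfFinitePresentation f.left := inferInstance
  let p : B.left := η[B].left (IsLocalRing.closedPoint K)
  have hd : f.left.finrank p ≠ 0 := by
    obtain ⟨x, hx⟩ := f.left.surjective p
    have := f.left.one_le_finrank_map x
    rw [hx] at this
    omega
  have hdeg : ∀ s : Spec (CommRingCat.of K), f.left.finrank (η[B].left s) = f.left.finrank p := fun s =>
    congrArg (fun s => f.left.finrank (η[B].left s)) (Subsingleton.elim s _)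
  haveI : IsMonHom (𝟙 A ^ f.left.finrank p : A ⟶ A) := isMonHom_pow_id _
  obtain ⟨g, hg⟩ := exists_factor f (e := 𝟙 A ^ f.left.finrank p) (fun T x hx => by
    rw [MonObj.comp_pow, Category.comp_id]
    exact pow_eq_one f _ hdeg x hx)
  haveI : GeometricallyReduced B.hom := inferInstance
  haveI hgm : IsMonHom g := Rigid.isMonHom_of_unit (Rigid.goodFibres_of_geometrically B.hom)
    (Rigid.isPreconnected_fibre (X := B)) g (by
      conv_lhs => rw [← IsMonHom.one_hom (f := f), Category.assoc, hg]
      exact IsMonHom.one_hom _)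
  refine ⟨g, hgm, _, hd, hg, Over.OverMorphism.ext ((cancel_epi f.left).1 ?_)⟩
  rw [← Over.comp_left, ← Over.comp_left]
  congr 1
  rw [← Category.assoc, hg, MonObj.pow_comp, Category.id_comp, MonObj.comp_pow, Category.comp_id]

variable [IsAlgClosed K]

/-- The dimension of a product is the sum of the dimensions. -/
theorem ProdAV.dim_eq {n : ℕ} {B : Fin n → Over (Spec (CommRingCat.of K))} [∀ t, GrpObj (B t)]
    [∀ t, IsProper (B t).hom] [∀ t, GeometricallyIntegral (B t).hom] (D : ProdAV B) (d : Fin n → ℕ)
    (hd : ∀ t, topologicalKrullDim (B t).left = d t) :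
    topologicalKrullDim D.P.left = ((∑ t, d t : ℕ) : WithBot ℕ∞) := by
  classical
  letI := D.grp
  haveI := D.proper
  haveI := D.geomInt
  haveI := D.pr_hom
  haveI := D.inj_hom
  haveI hPc : IsCommMonObj D.P := isCommMonObj_of_isProper_of_geometricallyIntegral D.P
  haveI := fun t => isCommMonObj_of_isProper_of_geometricallyIntegral (B t)
  haveI : Nonempty D.P.left := ⟨η[D.P].left (IsLocalRing.closedPoint K : ↥(Spec (CommRingCat.of K)))⟩
  obtain ⟨p, hp⟩ := AVDeg.exists_dim D.P
  obtain ⟨l, hl, hl0⟩ := AVDeg.exists_prime_ne_zero K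
  let O := 𝟙_ (Over (Spec (CommRingCat.of K)))
  have hext : ∀ x : O ⟶ D.P, ∏ t, (x ≫ D.pr t) ≫ D.inj t = x := fun x => by
    let H : (D.P ⟶ D.P) →* (O ⟶ D.P) :=
      { toFun := fun y => x ≫ y, map_one' := MonObj.comp_one _, map_mul' := fun a b => MonObj.comp_mul _ _ _ }
    have h := congrArg H D.total
    rw [map_prod] at h
    refine Eq.trans (Finset.prod_congr rfl fun t _ => Category.assoc _ _ _) (h.trans (Category.comp_id x))
  let e : AVDeg.tors (Additive (O ⟶ D.P)) l ≃ ((t : Fin n) → AVDeg.tors (Additive (O ⟶ B t)) l) :=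
    { toFun := fun x t => ⟨Additive.ofMul (Additive.toMul x.1 ≫ D.pr t), AVDeg.mem_tors.2 (by
        show Additive.ofMul ((Additive.toMul x.1 ≫ D.pr t) ^ l) = 0
        rw [← MonObj.pow_comp, show Additive.toMul x.1 ^ l = 1 from congrArg Additive.toMul (AVDeg.mem_tors.1 x.2),
          MonObj.one_comp]
        rfl)⟩
      invFun := fun y => ⟨Additive.ofMul (∏ t, Additive.toMul (y t).1 ≫ D.inj t), AVDeg.mem_tors.2 (by
        show Additive.ofMul ((∏ t, Additive.toMul (y t).1 ≫ D.inj t) ^ l) = 0
        rw [← Finset.prod_pow, Finset.prod_eq_one fun t _ => ?_]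
        · rfl
        · rw [← MonObj.pow_comp, show Additive.toMul (y t).1 ^ l = 1 from
            congrArg Additive.toMul (AVDeg.mem_tors.1 (y t).2), MonObj.one_comp])⟩
      left_inv := fun x => Subtype.ext (congrArg Additive.ofMul (hext (Additive.toMul x.1)))
      right_inv := fun y => funext fun t => Subtype.ext (congrArg Additive.ofMul (by
        show (∏ s, Additive.toMul (y s).1 ≫ D.inj s) ≫ D.pr t = Additive.toMul (y t).1
        let H : (O ⟶ D.P) →* (O ⟶ B t) :=
          { toFun := fun x => x ≫ D.pr t, map_one' := MonObj.one_comp _, map_mul' := fun a b => MonObj.mul_comp _ _ _ }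
        show H _ = _
        rw [map_prod, Finset.prod_eq_single t (fun s _ hs => ?_) (fun h => absurd (Finset.mem_univ t) h)]
        · show (_ ≫ D.inj t) ≫ D.pr t = _
          rw [Category.assoc, D.self, Category.comp_id]
        · show (_ ≫ D.inj s) ≫ D.pr t = 1
          rw [Category.assoc, D.other t s (Ne.symm hs), MonObj.comp_one])) }
  have h := Nat.card_congr e
  rw [Nat.card_pi, AVDeg.natCard_tors hp hl0, Finset.prod_congr rfl (fun t _ => AVDeg.natCard_tors (hd t) hl0),
    Finset.prod_pow_eq_pow_sum] at h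
  have h' := Nat.pow_right_injective hl.two_le h
  rw [hp, show ∑ t, d t = p by rw [← Finset.mul_sum] at h'; omega]

end Groth.Agent.AgIsog
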