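import Groth.Prelude.Def_AlgGrp
import Mathlib.CategoryTheory.Monoidal.Cartesian.Over
import Mathlib.CategoryTheory.Monoidal.Cartesian.Grp

/-!
The kernel of a homomorphism as a group object, over any base.
-/

set_option autoImplicit false

universe u

noncomputable section

open CategoryTheory CategoryTheory.Limits MonoidalCategory CartesianMonoidalCategory MonObj GrpObj AlgebraicGeometry

namespace Groth.Agent.AgIsog

variable {S : Scheme.{u}}

/-- The kernel, with the square exhibiting it. -/
theorem exists_kernel {G Q : Over S} [GrpObj G] [GrpObj Q] (q : G ⟶ Q) [IsMonHom q] :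
    ∃ (N : Over S) (_ : GrpObj N) (i : N ⟶ G), IsMonHom i ∧ Mono i ∧ IsPullback i.left N.hom q.left η[Q].left ∧
      ∀ (T : Over S) (g : T ⟶ G), (∃ z : T ⟶ N, z ≫ i = g) ↔ g ≫ q = 1 := by
  haveI : Mono η[Q].left := SplitMono.mono ⟨Q.hom, Over.w η[Q]⟩
  let N : Over S := Over.mk (pullback.fst q.left η[Q].left ≫ G.hom)
  let i : N ⟶ G := Over.homMk (pullback.fst q.left η[Q].left)
  haveI : Mono i.left := inferInstanceAs (Mono (pullback.fst q.left η[Q].left))
  haveI : Mono i := Over.mono_of_mono_left i
  have hmem : ∀ (T : Over S) (g : T ⟶ G), (∃ z : T ⟶ N, z ≫ i = g) ↔ g ≫ q = 1 := by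
    intro T g
    constructor
    · rintro ⟨z, rfl⟩
      rw [Hom.one_def, Category.assoc, ← toUnit_unique (z ≫ toUnit N) (toUnit T), Category.assoc]
      congr 1
      ext1
      rw [Over.comp_left, Over.comp_left, Over.toUnit_left]
      change pullback.fst q.left η[Q].left ≫ q.left = (pullback.fst q.left η[Q].left ≫ G.hom) ≫ η[Q].left
      rw [pullback.condition]
      congr 1
      have h := Over.w q
      have hη := Over.w η[Q]
      rw [← h, ← Category.assoc, pullback.condition, Category.assoc, hη]
      exact (Category.comp_id _).symm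
    · intro hg
      rw [Hom.one_def] at hg
      have h := congrArg CommaMorphism.left hg
      refine ⟨Over.homMk (pullback.lift g.left (toUnit T).left h) ?_, ?_⟩
      · change pullback.lift _ _ _ ≫ pullback.fst _ _ ≫ G.hom = _
        rw [pullback.lift_fst_assoc, Over.w g]
      · ext1
        exact pullback.lift_fst _ _ _
  have hiq : i ≫ q = 1 := (hmem N i).1 ⟨𝟙 _, Category.id_comp _⟩
  obtain ⟨μN, hμ⟩ : ∃ z, z ≫ i = (fst N N ≫ i) * (snd N N ≫ i) := (hmem _ _).2 (by
    rw [MonObj.mul_comp, Category.assoc, Category.assoc, hiq, MonObj.comp_one, MonObj.comp_one, _root_.one_mul])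
  obtain ⟨eN, he⟩ := (hmem (𝟙_ _) η[G]).2
    ((IsMonHom.one_hom (f := q)).trans (by rw [Hom.one_def, toUnit_unit, Category.id_comp]))
  obtain ⟨vN, hv⟩ : ∃ z, z ≫ i = i⁻¹ := (hmem _ _).2 (by rw [GrpObj.inv_comp, hiq, inv_one])
  letI inst : GrpObj N :=
    { one := eN
      mul := μN
      inv := vN
      one_mul := by
        rw [← cancel_mono i, Category.assoc, hμ, MonObj.comp_mul, whiskerRight_fst_assoc, he,
          whiskerRight_snd_assoc, toUnit_unique (fst _ N) (toUnit _), ← Hom.one_def, _root_.one_mul,
          leftUnitor_hom]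
      mul_one := by
        rw [← cancel_mono i, Category.assoc, hμ, MonObj.comp_mul, whiskerLeft_fst_assoc,
          whiskerLeft_snd_assoc, he, toUnit_unique (snd N _) (toUnit _), ← Hom.one_def, _root_.mul_one,
          rightUnitor_hom]
      mul_assoc := by
        rw [← cancel_mono i]
        simp only [Category.assoc, hμ, MonObj.comp_mul, whiskerRight_fst_assoc, whiskerRight_snd_assoc,
          whiskerLeft_fst_assoc, whiskerLeft_snd_assoc, associator_hom_fst_assoc,
          associator_hom_snd_fst_assoc, associator_hom_snd_snd_assoc, _root_.mul_assoc]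
      left_inv := by
        rw [← cancel_mono i, Category.assoc, hμ, MonObj.comp_mul, lift_fst_assoc, lift_snd_assoc,
          Category.id_comp, hv, inv_mul_cancel, Category.assoc, he]
        rfl
      right_inv := by
        rw [← cancel_mono i, Category.assoc, hμ, MonObj.comp_mul, lift_fst_assoc, lift_snd_assoc,
          Category.id_comp, hv, mul_inv_cancel, Category.assoc, he]
        rfl }
  have himon : IsMonHom i := ⟨he, by
    change μN ≫ i = _
    rw [hμ, Hom.mul_def]
    congr 1
    try ext1 <;> simp⟩
  refine ⟨N, inst, i, himon, inferInstance, ?_, hmem⟩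
  have e : N.hom = pullback.snd q.left η[Q].left := by
    change pullback.fst q.left η[Q].left ≫ G.hom = _
    rw [← Over.w q, pullback.condition_assoc, Over.w η[Q]]
    exact Category.comp_id _
  rw [e]
  exact IsPullback.of_hasPullback q.left η[Q].left

end Groth.Agent.AgIsog
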