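import Groth.Agent.AgIsog.Kernel
import Groth.Agent.Rigid.Over
import Groth.Agent.Rigid.Lemma
import Groth.Agent.AVDeg.Fibrewise
import Groth.Agent.AVDeg.EulerDegenerate
import Groth.Agent.Bootstrap.Tools
import Groth.Agent.S7782
import Mathlib.AlgebraicGeometry.Sites.Fpqc
import Mathlib.AlgebraicGeometry.Morphisms.FlatRank

/-!
Factoring multiplication by the degree through an isogeny.
-/

set_option autoImplicit false
set_option backward.isDefEq.respectTransparency false
set_option backward.isDefEq.respectTransparency.types false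
set_option linter.style.haveILetI false

universe u

noncomputable section

open CategoryTheory CategoryTheory.Limits MonoidalCategory CartesianMonoidalCategory MonObj GrpObj AlgebraicGeometry

namespace Groth.Agent.AgIsog

variable {S : Scheme.{u}}

/-- The degree of a finite flat homomorphism kills its kernel. -/
theorem pow_eq_one {X Y : Over S} [GrpObj X] [IsCommMonObj X] [GrpObj Y] (f : X ⟶ Y) [IsMonHom f] [IsFinite f.left]
    [Flat f.left] [LocallyOfFinitePresentation f.left] (n : ℕ) (hdeg : ∀ s : S, f.left.finrank (η[Y].left s) = n)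
    {T : Over S} (x : T ⟶ X) (hx : x ≫ f = 1) : x ^ n = 1 := by
  obtain ⟨N, hG, i, hi, hmono, hpb, hmem⟩ := exists_kernel f
  obtain ⟨z, rfl⟩ := (hmem T x).2 hx
  haveI : IsFinite N.hom := MorphismProperty.of_isPullback hpb ‹IsFinite f.left›
  haveI : Flat N.hom := MorphismProperty.of_isPullback hpb ‹Flat f.left›
  haveI : LocallyOfFinitePresentation N.hom := MorphismProperty.of_isPullback hpb ‹LocallyOfFinitePresentation f.left›
  have e : fst N N * snd N N = snd N N * fst N N := by
    rw [← cancel_mono i, MonObj.mul_comp, MonObj.mul_comp]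
    exact _root_.mul_comm _ _
  haveI : IsCommMonObj N := ⟨by
    rw [Hom.mul_def, Hom.mul_def, lift_fst_snd, Category.id_comp] at e
    rw [show (β_ N N).hom = lift (snd N N) (fst N N) from by ext1 <;> simp]
    exact e.symm⟩
  have h := Groth.Agent.S7782.result N n (fun s => by
    exact (Scheme.Hom.finrank_of_isPullback _ _ f.left _ hpb s).trans (hdeg s)) T z
  rw [← MonObj.pow_comp, h, MonObj.one_comp]

/-- A homomorphism killed by the kernel of an fppf homomorphism factors through it. -/
theorem exists_factor {X Y Z : Over S} [GrpObj X] [GrpObj Y] [GrpObj Z] (f : X ⟶ Y) [IsMonHom f] [Flat f.left]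
    [Surjective f.left] [QuasiCompact f.left] (e : X ⟶ Z) [IsMonHom e]
    (h : ∀ (T : Over S) (x : T ⟶ X), x ≫ f = 1 → x ≫ e = 1) : ∃ g : Y ⟶ Z, f ≫ g = e := by
  haveI : EffectiveEpi f.left := inferInstance
  have hd : ∀ {W : Scheme.{u}} (a b : W ⟶ X.left), a ≫ f.left = b ≫ f.left → a ≫ e.left = b ≫ e.left := by
    intro W a b hab
    have hab' : a ≫ X.hom = b ≫ X.hom := by rw [← Over.w f, ← Category.assoc, hab, Category.assoc]
    let T : Over S := Over.mk (a ≫ X.hom)
    let x : T ⟶ X := Over.homMk a
    let y : T ⟶ X := Over.homMk b hab'.symm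
    have hxy : x ≫ f = y ≫ f := Over.OverMorphism.ext hab
    have he : x ≫ e = y ≫ e := by
      have := h T (x * y⁻¹) (by rw [MonObj.mul_comp, GrpObj.inv_comp, hxy, mul_inv_cancel])
      rwa [MonObj.mul_comp, GrpObj.inv_comp, mul_inv_eq_one] at this
    exact congrArg CommaMorphism.left he
  obtain ⟨g', hg'⟩ : ∃ g' : Y.left ⟶ Z.left, f.left ≫ g' = e.left :=
    ⟨_, EffectiveEpi.fac f.left e.left (fun {W} a b hab => @hd W a b hab)⟩
  refine ⟨Over.homMk g' ?_, ?_⟩
  · rw [← cancel_epi f.left, ← Category.assoc, hg', Over.w e, Over.w f]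
  · exact Over.OverMorphism.ext hg'

end Groth.Agent.AgIsog
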