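import Groth.Agent.GrpField.SchImgExists
import Groth.Agent.GrpField.SchImgSmooth
import Groth.Agent.GrpField.AbelianField
import Groth.Agent.AgSymm.Collapse
import Groth.Agent.AgIsog.Factor
import Mathlib.AlgebraicGeometry.Geometrically.Integral
import Mathlib.AlgebraicGeometry.Group.Smooth

/-!
Images and quasi-inverses of homomorphisms of abelian varieties over a field.
-/

set_option autoImplicit false
set_option backward.isDefEq.respectTransparency false
set_option backward.isDefEq.respectTransparency.types false
set_option linter.style.haveILetI false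

universe u

noncomputable section

open CategoryTheory CategoryTheory.Limits MonoidalCategory CartesianMonoidalCategory MonObj GrpObj AlgebraicGeometry

namespace Groth.Agent.AgIsog

variable {k : Type u} [Field k]

/-- A schematically dominant surjective image of a geometrically integral scheme is geometrically integral. -/
theorem geometricallyIntegral_of_schDom {X Y : Over (Spec (CommRingCat.of k))} (g : X ⟶ Y)
    [IsSchemeTheoreticallyDominant g.left] [QuasiCompact g.left] [Surjective g.left] [GeometricallyIntegral X.hom] :
    GeometricallyIntegral Y.hom := by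
  haveI := GrpField.SchImg.geometricallyReduced_of_schDom g
  haveI : GeometricallyIrreducible Y.hom := ⟨fun K _ y Z p₁ p₂ h => by
    have big : IsPullback (pullback.fst g.left p₁) (pullback.snd g.left p₁ ≫ p₂) X.hom y := by
      rw [← Over.w g]
      exact (IsPullback.of_hasPullback g.left p₁).paste_vert h
    haveI := GeometricallyIrreducible.geometrically_irreducibleSpace _ _ _ big
    exact (pullback.snd g.left p₁).surjective.irreducibleSpace (pullback.snd g.left p₁).continuous⟩
  exact GeometricallyIntegral.of_geometricallyReduced_of_geometricallyIrreducible _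

variable {A : Over (Spec (CommRingCat.of k))} [GrpObj A] [IsProper A.hom] [GeometricallyIntegral A.hom]

/-- A nonzero homomorphism out of an abelian variety has a geometrically integral image with two points. -/
theorem exists_image_nontrivial {B : Over (Spec (CommRingCat.of k))} [GrpObj B] [IsProper B.hom]
    (f : A ⟶ B) [IsMonHom f] (hf : f ≠ 1) :
    ∃ (K : Over (Spec (CommRingCat.of k))) (_ : GrpObj K) (i : K ⟶ B) (g : A ⟶ K),
      IsMonHom i ∧ IsMonHom g ∧ g ≫ i = f ∧ IsClosedImmersion i.left ∧ GeometricallyIntegral K.hom ∧
      Surjective g.left ∧ ¬ Subsingleton K.left := by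
  haveI : IsProper (f.left ≫ B.hom) := by rw [Over.w f]; infer_instance
  haveI : IsProper f.left := IsProper.of_comp f.left B.hom
  obtain ⟨K, hK, i, g, hi, hg, hgi, hcl, hdom, hqc, hsurj⟩ := GrpField.SchImg.exists_image f
  refine ⟨K, hK, i, g, hi, hg, hgi, hcl, geometricallyIntegral_of_schDom g, hsurj, fun hsub => hf ?_⟩
  haveI : GeometricallyConnected A.hom := W7See.geometricallyConnected_of_geometricallyIntegral A.hom
  haveI : Smooth A.hom := by
    haveI : GrpObj (Over.mk A.hom) := inferInstanceAs (GrpObj A)
    exact smooth_of_grpObj A.hom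
  subst hgi
  refine AgSymm.eq_one_of_collapsed (g ≫ i) (IsMonHom.one_hom _) fun y => ?_
  have e : g.left.base y = η[K].left.base (A.hom.base y) := Subsingleton.elim (α := K.left) _ _
  have h := congrArg i.left.base e
  have he : η[K] ≫ i = η[B] := IsMonHom.one_hom i
  rw [← he]
  exact h

variable [IsCommMonObj A]

omit [IsProper A.hom] [GeometricallyIntegral A.hom] in
theorem isMonHom_pow_id : ∀ n : ℕ, IsMonHom (𝟙 A ^ n : A ⟶ A)
  | 0 => by rw [pow_zero, Hom.one_def]; infer_instance
  | n + 1 => by
    haveI := isMonHom_pow_id n
    rw [pow_succ, Hom.mul_def]; infer_instance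

/-- A surjective endomorphism of an abelian variety has a quasi-inverse. -/
theorem exists_quasiInverse (f : A ⟶ A) [IsMonHom f] [Surjective f.left] :
    ∃ (g : A ⟶ A) (_ : IsMonHom g) (d : ℕ), d ≠ 0 ∧ f ≫ g = 𝟙 A ^ d ∧ g ≫ f = 𝟙 A ^ d := by
  haveI : Subsingleton (Spec (CommRingCat.of k)) := inferInstanceAs (Subsingleton (PrimeSpectrum k))
  haveI : IsIntegral A.left := GeometricallyIntegral.isIntegral_of_subsingleton A.hom
  haveI : GeometricallyConnected A.hom := W7See.geometricallyConnected_of_geometricallyIntegral A.hom
  haveI : IsProper (f.left ≫ A.hom) := by rw [Over.w f]; infer_instance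
  haveI : IsProper f.left := IsProper.of_comp f.left A.hom
  haveI := (GrpField.locallyQuasiFinite_iff_surjective f rfl).2 inferInstance
  haveI : IsFinite f.left := IsFinite.of_isProper_of_locallyQuasiFinite f.left
  haveI : Flat f.left := (GrpField.flat_iff_isFinite f rfl).2 inferInstance
  haveI : IsLocallyNoetherian A.left := LocallyOfFiniteType.isLocallyNoetherian A.hom
  haveI : LocallyOfFinitePresentation f.left := inferInstance
  let p : A.left := η[A].left (IsLocalRing.closedPoint k)
  have hd : f.left.finrank p ≠ 0 := by
    obtain ⟨x, hx⟩ := f.left.surjective p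
    have := f.left.one_le_finrank_map x
    rw [hx] at this
    omega
  have hdeg : ∀ s : Spec (CommRingCat.of k), f.left.finrank (η[A].left s) = f.left.finrank p := fun s =>
    congrArg (fun s => f.left.finrank (η[A].left s)) (Subsingleton.elim s _)
  haveI : IsMonHom (𝟙 A ^ f.left.finrank p : A ⟶ A) := isMonHom_pow_id _
  obtain ⟨g, hg⟩ := exists_factor f (e := 𝟙 A ^ f.left.finrank p) (fun T x hx => by
    rw [MonObj.comp_pow, Category.comp_id]
    exact pow_eq_one f _ hdeg x hx)
  haveI : GeometricallyReduced A.hom := inferInstance
  haveI hgm : IsMonHom g := Rigid.isMonHom_of_unit (Rigid.goodFibres_of_geometrically A.hom)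
    (Rigid.isPreconnected_fibre (X := A)) g (by
      conv_lhs => rw [← IsMonHom.one_hom (f := f), Category.assoc, hg]
      exact IsMonHom.one_hom _)
  refine ⟨g, hgm, _, hd, hg, Over.OverMorphism.ext ((cancel_epi f.left).1 ?_)⟩
  rw [← Over.comp_left, ← Over.comp_left]
  congr 1
  rw [← Category.assoc, hg, MonObj.pow_comp, Category.id_comp, MonObj.comp_pow, Category.comp_id]

end Groth.Agent.AgIsog
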