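import Groth.Agent.AgIsog.RelPoints
import Groth.Agent.AgIsog.Simple
import Groth.Agent.GrpField.SurjSmooth
import Groth.Agent.MaxAb.Main
import Groth.Agent.AgVanish.Invariant
import Groth.Agent.AVDeg.Pow
import Groth.Agent.AgSymm.PowSurj

/-!
Poincaré's complete reducibility theorem over an arbitrary field.
-/

set_option autoImplicit false
set_option backward.isDefEq.respectTransparency false
set_option backward.isDefEq.respectTransparency.types false
set_option linter.style.haveILetI false
set_option linter.unusedSectionVars false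
set_option maxHeartbeats 1000000
set_option synthInstance.maxHeartbeats 200000

universe u

open CategoryTheory CategoryTheory.Limits MonoidalCategory CartesianMonoidalCategory MonObj GrpObj AlgebraicGeometry
open TopologicalSpace
open scoped CategoryTheory.Obj

noncomputable section

namespace Groth.Agent.AgIsog

variable {k : Type u} [Field k]

/-- a closed point carries a geometric point -/
theorem exists_ptO_apply (Ω : Type u) [Field Ω] [Algebra k Ω] [IsAlgClosed Ω] {X : Over (Spec (CommRingCat.of k))}
    [IsProper X.hom] {y : X.left} (hy : IsClosed ({y} : Set X.left)) :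
    ∃ a : ptO (k := k) Ω ⟶ X, a.left (IsLocalRing.closedPoint Ω : ↥(Spec (CommRingCat.of Ω))) = y := by
  let σ := AVDeg.specMap k Ω
  let π := pullback.fst X.hom σ
  haveI : Surjective σ := ⟨fun _ => ⟨IsLocalRing.closedPoint Ω, Subsingleton.elim (α := PrimeSpectrum k) _ _⟩⟩
  haveI : Surjective π := inferInstanceAs (Surjective (pullback.fst X.hom σ))
  haveI : LocallyOfFiniteType (pullback.snd X.hom σ) := inferInstance
  haveI : JacobsonSpace ↥(pullback X.hom σ) := LocallyOfFiniteType.jacobsonSpace (pullback.snd X.hom σ)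
  obtain ⟨x, hx⟩ := π.surjective y
  obtain ⟨z, hz, hzc⟩ := nonempty_inter_closedPoints (Z := π ⁻¹' {y}) ⟨x, hx⟩
    (hy.preimage π.continuous).isLocallyClosed
  let P : Spec (CommRingCat.of Ω) ⟶ pullback X.hom σ := pointOfClosedPoint (pullback.snd X.hom σ) z hzc
  have hP : P ≫ pullback.snd X.hom σ = 𝟙 _ := pointOfClosedPoint_comp _ _ _
  refine ⟨Over.homMk (P ≫ π) ?_, ?_⟩
  · show (P ≫ π) ≫ X.hom = σ
    rw [Category.assoc, pullback.condition, ← Category.assoc, hP, Category.id_comp]
  · show π.base (P.base _) = y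
    rw [show P.base (IsLocalRing.closedPoint Ω : ↥(Spec (CommRingCat.of Ω))) = z from pointOfClosedPoint_apply _ _ _ _]
    exact hz

/-- a homomorphism with finite kernel is finite -/
theorem isFinite_of_kernel {G H : Over (Spec (CommRingCat.of k))} [GrpObj G] [GrpObj H] [IsProper G.hom]
    [IsSeparated H.hom] (f : G ⟶ H) [IsMonHom f]
    (hK : IsFinite (pullback.snd f.left (η[H] : 𝟙_ (Over (Spec (CommRingCat.of k))) ⟶ H).left)) :
    IsFinite f.left := by
  haveI : IsProper (f.left ≫ H.hom) := by rw [Over.w f]; infer_instance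
  haveI : IsProper f.left := IsProper.of_comp f.left H.hom
  have hff : IsFinite (pullback.snd f.left f.left) := by
    rw [GrpField.translate_iff f @IsFinite f (𝟙 G)⁻¹, GrpObj.inv_comp, Category.id_comp, mul_inv_cancel,
      show (1 : G ⟶ H) = toUnit G ≫ η from rfl, Over.comp_left]
    exact GrpField.snd_of_comp f @IsFinite _ _ hK
  haveI : LocallyQuasiFinite f.left := by
    rw [locallyQuasiFinite_iff_finite_preimage_singleton]
    intro y
    rcases (f.left ⁻¹' {y}).eq_empty_or_nonempty with h | ⟨x, hx⟩
    · rw [h]; exact Set.finite_empty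
    · refine ((pullback.snd f.left f.left).finite_preimage_singleton x |>.image
        (pullback.fst f.left f.left).base).subset fun x' hx' => ?_
      obtain ⟨z, hz1, hz2⟩ := Scheme.Pullback.exists_preimage_pullback (f := f.left) (g := f.left) x' x
        ((show f.left x' = y from hx').trans (show f.left x = y from hx).symm)
      exact ⟨z, hz2, hz1⟩
  exact IsFinite.of_isProper_of_locallyQuasiFinite f.left

attribute [local instance] W7Cube.law

variable {A B : Over (Spec (CommRingCat.of k))} [GrpObj A] [GrpObj B]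
variable [IsProper A.hom] [GeometricallyIntegral A.hom] [IsProper B.hom] [GeometricallyIntegral B.hom]

/-- A homomorphism back onto the subvariety, multiplication on it. -/
theorem exists_retraction_pow' {L : A.left.Modules} (hL : CohB1.IsAmple L) (i : B ⟶ A) [IsMonHom i]
    [IsClosedImmersion i.left] :
    ∃ (f : A ⟶ B) (_ : IsMonHom f) (m : ℕ), m ≠ 0 ∧ i ≫ f = 𝟙 B ^ m ∧
      ∀ (T : Over (Spec (CommRingCat.of k))), IsLocallyNoetherian T.left → ∀ z : T ⟶ A,
        rmum (PicGrp.cls L hL.1) i (z ^ m * (z ≫ f ≫ i)⁻¹) = 1 := by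
  classical
  haveI : Subsingleton (Spec (CommRingCat.of k)) := inferInstanceAs (Subsingleton (PrimeSpectrum k))
  haveI : IsIntegral A.left := GeometricallyIntegral.isIntegral_of_subsingleton A.hom
  haveI : IsCommMonObj A := isCommMonObj_of_isProper_of_geometricallyIntegral A
  haveI : IsCommMonObj B := isCommMonObj_of_isProper_of_geometricallyIntegral B
  let Ω := AlgebraicClosure k
  obtain ⟨K, hKg, κ, hκm, hκc, hmem⟩ := exists_relLocus (PicGrp.cls L hL.1) i
  haveI := hκc
  haveI : Mono κ := Over.mono_of_mono_left κ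
  haveI : IsProper (κ.left ≫ A.hom) := inferInstance
  haveI : IsProper K.hom := by rw [← Over.w κ]; infer_instance
  haveI : IsCommMonObj K := ⟨by
    have e : fst K K * snd K K = snd K K * fst K K := by
      rw [← cancel_mono κ, MonObj.mul_comp, MonObj.mul_comp]
      exact _root_.mul_comm _ _
    rw [Hom.mul_def, Hom.mul_def, lift_fst_snd, Category.id_comp] at e
    rw [show (β_ K K).hom = lift (snd K K) (fst K K) from by ext1 <;> simp]
    exact e.symm⟩
  haveI : IsProper (B ⊗ K).hom := inferInstanceAs (IsProper (pullback.fst B.hom K.hom ≫ B.hom))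
  let p : B ⊗ K ⟶ A := (fst B K ≫ i) * (snd B K ≫ κ)
  haveI : IsMonHom p := MaxAb.isMonHom_mul _ _
  haveI : IsProper (p.left ≫ A.hom) := by rw [Over.w p]; infer_instance
  haveI : IsProper p.left := IsProper.of_comp p.left A.hom
  have hNO : IsLocallyNoetherian (ptO (k := k) Ω).left := inferInstanceAs (IsLocallyNoetherian (Spec (CommRingCat.of Ω)))
  -- surjectivity
  haveI : JacobsonSpace A.left := LocallyOfFiniteType.jacobsonSpace A.hom
  haveI : Surjective p.left := by
    refine ⟨Set.range_eq_univ.1 (Set.eq_univ_of_univ_subset ?_)⟩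
    rw [← closure_closedPoints]
    refine closure_minimal (fun y hy => ?_) p.left.isClosedMap.isClosed_range
    obtain ⟨a, rfl⟩ := exists_ptO_apply Ω hy
    obtain ⟨x, hx⟩ := exists_decomp Ω hL i a
    obtain ⟨w, hw⟩ := (hmem _ hNO _).2 hx
    have e : lift x w ≫ p = a := by
      show lift x w ≫ ((fst B K ≫ i) * (snd B K ≫ κ)) = a
      rw [MonObj.comp_mul, lift_fst_assoc, lift_snd_assoc, hw, mul_comm, inv_mul_cancel_right]
    exact ⟨(lift x w).left (IsLocalRing.closedPoint Ω : ↥(Spec (CommRingCat.of Ω))),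
      congrArg (fun g : ptO (k := k) Ω ⟶ A => g.left (IsLocalRing.closedPoint Ω : ↥(Spec (CommRingCat.of Ω)))) e⟩
  -- finiteness of the kernel
  obtain ⟨N, hNg, ν, hνm, hνmono, hpb, hker⟩ := exists_kernel p
  haveI : IsProper (pullback.snd p.left (η[A] : 𝟙_ (Over (Spec (CommRingCat.of k))) ⟶ A).left) := inferInstance
  haveI : IsProper N.hom := MorphismProperty.of_isPullback hpb ‹IsProper p.left›
  haveI : JacobsonSpace N.left := LocallyOfFiniteType.jacobsonSpace N.hom
  have hfinN : Set.Finite (Set.univ : Set N.left) := by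
    haveI : Finite {x : ptO (k := k) Ω ⟶ B | rmum (PicGrp.cls L hL.1) i (x ≫ i) = 1} :=
      (finite_kernel Ω hL i).to_subtype
    have hrel : ∀ z : ptO (k := k) Ω ⟶ N, (z ≫ ν ≫ snd B K) ≫ κ = ((z ≫ ν ≫ fst B K) ≫ i)⁻¹ := fun z => by
      have := (hker _ (z ≫ ν)).1 ⟨z, rfl⟩
      simp only [p, MonObj.comp_mul, ← Category.assoc] at this ⊢
      exact eq_inv_of_mul_eq_one_right this
    let ψ : (ptO (k := k) Ω ⟶ N) → {x : ptO (k := k) Ω ⟶ B | rmum (PicGrp.cls L hL.1) i (x ≫ i) = 1} :=
      fun z => ⟨z ≫ ν ≫ fst B K, by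
        have h := (hmem _ hNO _).1 ⟨z ≫ ν ≫ snd B K, hrel z⟩
        rwa [rmum_inv, inv_eq_one] at h⟩
    have hψ : Function.Injective ψ := fun z z' h => by
      have h1 : z ≫ ν ≫ fst B K = z' ≫ ν ≫ fst B K := congrArg Subtype.val h
      rw [← cancel_mono ν]
      refine CartesianMonoidalCategory.hom_ext _ _ (by simpa only [Category.assoc] using h1) ?_
      rw [← cancel_mono κ]
      simp only [Category.assoc]
      have a1 := hrel z
      have a2 := hrel z'
      rw [h1] at a1
      simpa only [Category.assoc] using a1.trans a2.symm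
    haveI : Finite (ptO (k := k) Ω ⟶ N) := Finite.of_injective ψ hψ
    have hcl : (closedPoints N.left).Finite :=
      (Set.finite_range fun z : ptO (k := k) Ω ⟶ N => z.left (IsLocalRing.closedPoint Ω : ↥(Spec (CommRingCat.of Ω)))).subset
        fun y hy => exists_ptO_apply Ω hy
    refine hcl.subset ?_
    rw [← closure_closedPoints]
    refine closure_minimal subset_rfl ?_
    rw [← Set.biUnion_of_singleton (closedPoints N.left)]
    exact hcl.isClosed_biUnion fun y hy => hy
  haveI : IsFinite N.hom := by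
    haveI : LocallyQuasiFinite N.hom :=
      (locallyQuasiFinite_iff_finite_preimage_singleton).2 fun y => hfinN.subset (Set.subset_univ _)
    exact IsFinite.of_isProper_of_locallyQuasiFinite N.hom
  haveI : IsFinite p.left := isFinite_of_kernel p (by
    rw [← hpb.isoPullback_inv_snd]
    exact (MorphismProperty.cancel_left_of_respectsIso @IsFinite hpb.isoPullback.inv N.hom).2 ‹_›)
  haveI : Flat p.left := GrpField.flat_of_surjective_reduced p
  haveI : IsLocallyNoetherian A.left := LocallyOfFiniteType.isLocallyNoetherian A.hom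
  haveI : LocallyOfFinitePresentation p.left := inferInstance
  let e₀ : A.left := η[A].left (IsLocalRing.closedPoint k : ↥(Spec (CommRingCat.of k)))
  have hm : p.left.finrank e₀ ≠ 0 := by
    obtain ⟨x, hx⟩ := p.left.surjective e₀
    have := p.left.one_le_finrank_map x
    rw [hx] at this
    omega
  have hdeg : ∀ s : Spec (CommRingCat.of k), p.left.finrank (η[A].left s) = p.left.finrank e₀ := fun s =>
    congrArg (fun s => p.left.finrank (η[A].left s)) (Subsingleton.elim s _)
  haveI : IsMonHom (𝟙 (B ⊗ K) ^ p.left.finrank e₀) := isMonHom_pow_id _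
  obtain ⟨h, hh⟩ := exists_factor p (e := 𝟙 (B ⊗ K) ^ p.left.finrank e₀) (fun T x hx => by
    rw [MonObj.comp_pow, Category.comp_id]
    exact pow_eq_one p _ hdeg x hx)
  have hi : lift (𝟙 B) (1 : B ⟶ K) ≫ p = i := by
    show lift (𝟙 B) (1 : B ⟶ K) ≫ ((fst B K ≫ i) * (snd B K ≫ κ)) = i
    rw [MonObj.comp_mul, lift_fst_assoc, lift_snd_assoc, Category.id_comp, MonObj.one_comp, _root_.mul_one]
  have hf : i ≫ h ≫ fst B K = 𝟙 B ^ p.left.finrank e₀ := by
    rw [← hi, Category.assoc, ← Category.assoc p h, hh, MonObj.pow_comp, Category.id_comp, MonObj.comp_pow,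
      lift_fst]
  haveI : GeometricallyReduced A.hom := inferInstance
  have hunit : η[A] ≫ h ≫ fst B K = η[B] := by
    rw [← IsMonHom.one_hom i, Category.assoc, hf, MonObj.comp_pow, Category.comp_id,
      show (η[B] : 𝟙_ (Over (Spec (CommRingCat.of k))) ⟶ B) = 1 by rw [Hom.one_def, toUnit_unit, Category.id_comp],
      _root_.one_pow]
  haveI : GeometricallyConnected A.hom := W7See.geometricallyConnected_of_geometricallyIntegral A.hom
  refine ⟨h ≫ fst B K, Rigid.isMonHom_of_unit (Rigid.goodFibres_of_geometrically A.hom)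
    (Rigid.isPreconnected_fibre (X := A)) _ hunit, _, hm, hf, fun T hT z => ?_⟩
  refine (hmem T hT _).1 ⟨z ≫ h ≫ snd B K, ?_⟩
  haveI : Epi p.left := Flat.epi_of_flat_of_surjective p.left
  haveI : Epi p := Over.epi_of_epi_left p
  have hhp : h ≫ p = 𝟙 A ^ p.left.finrank e₀ := by
    rw [← cancel_epi p, ← Category.assoc, hh, MonObj.pow_comp, Category.id_comp, MonObj.comp_pow, Category.comp_id]
  have e1 := congrArg (z ≫ ·) hhp
  simp only [p, MonObj.comp_mul, MonObj.comp_pow, Category.comp_id] at e1
  simp only [Category.assoc]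
  rw [← e1, mul_comm, inv_mul_cancel_left]

/-- A homomorphism back onto the subvariety, multiplication on it. -/
theorem exists_retraction_pow {L : A.left.Modules} (hL : CohB1.IsAmple L) (i : B ⟶ A) [IsMonHom i]
    [IsClosedImmersion i.left] :
    ∃ (f : A ⟶ B) (_ : IsMonHom f) (m : ℕ), m ≠ 0 ∧ i ≫ f = 𝟙 B ^ m := by
  obtain ⟨f, hf, m, hm, h, -⟩ := exists_retraction_pow' hL i
  exact ⟨f, hf, m, hm, h⟩

end Groth.Agent.AgIsog
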