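import Groth.Agent.AVAmple.Mumford
import Groth.Agent.AVAmple.Translate
import Groth.Agent.S19476
import Groth.Agent.Assoc.Kernel
import Groth.Agent.GrpField.SchImg
import Groth.Agent.CurveRR.Curve

/-!
The points of an abelian variety whose Mumford bundle is trivial along a homomorphism.
-/

set_option autoImplicit false
set_option backward.isDefEq.respectTransparency false
set_option backward.isDefEq.respectTransparency.types false
set_option linter.style.haveILetI false
set_option linter.unusedSectionVars false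
set_option maxHeartbeats 1000000

universe u

open CategoryTheory CategoryTheory.Limits MonoidalCategory CartesianMonoidalCategory MonObj GrpObj AlgebraicGeometry

noncomputable section

namespace Groth.Agent.AgIsog

open W7Cube (pull pc pull_pc pull_pull pull_cls pc_one)

attribute [local instance] W7Cube.law

variable {k : Type u} [Field k] {A B : Over (Spec (CommRingCat.of k))} [GrpObj A] [GrpObj B]
variable {T T' : Over (Spec (CommRingCat.of k))}

/-- the Mumford class along `z`, restricted along `i` -/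
def rmum (c : PicLoc.PicSet A.left) (i : B ⟶ A) (z : T ⟶ A) : PicLoc.PicSet (B ⊗ T).left :=
  pc c ((fst B T ≫ i) * (snd B T ≫ z)) * (pc c (fst B T ≫ i) * pc c (snd B T ≫ z))⁻¹

theorem rmum_eq (c : PicLoc.PicSet A.left) (i : B ⟶ A) (z : T ⟶ A) :
    rmum c i z = pull (i ▷ T).left (AVAmple.mum c z) := by
  simp only [rmum, AVAmple.mum, map_mul, map_inv, pull_pc, MonObj.comp_mul, whiskerRight_fst,
    whiskerRight_snd_assoc]

theorem rmum_one (c : PicLoc.PicSet A.left) (i : B ⟶ A) : rmum c i (1 : T ⟶ A) = 1 := by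
  rw [rmum_eq, AVAmple.mum_one, map_one]

theorem rmum_mul [IsProper A.hom] [GeometricallyIntegral A.hom] (c : PicLoc.PicSet A.left) (i : B ⟶ A)
    (x y : T ⟶ A) : rmum c i (x * y) = rmum c i x * rmum c i y := by
  rw [rmum_eq, rmum_eq, rmum_eq, AVAmple.mum_mul, map_mul]

theorem rmum_inv [IsProper A.hom] [GeometricallyIntegral A.hom] (c : PicLoc.PicSet A.left) (i : B ⟶ A)
    (x : T ⟶ A) : rmum c i x⁻¹ = (rmum c i x)⁻¹ := by
  rw [rmum_eq, rmum_eq, AVAmple.mum_inv, map_inv]

theorem pull_rmum (c : PicLoc.PicSet A.left) (i : B ⟶ A) (g : T' ⟶ T) (z : T ⟶ A) :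
    pull (B ◁ g).left (rmum c i z) = rmum c i (g ≫ z) := by
  simp only [rmum, map_mul, map_inv, pull_pc, MonObj.comp_mul, whiskerLeft_fst_assoc, whiskerLeft_snd_assoc]

theorem rmum_eq_one_of_pullback (c : PicLoc.PicSet A.left) (i : B ⟶ A) [IsMonHom i] (z : T ⟶ A)
    (d : PicLoc.PicSet T.left) (h : rmum c i z = pull (snd B T).left d) : rmum c i z = 1 := by
  have h' := congrArg (pull (lift (toUnit T ≫ η[B]) (𝟙 T)).left) h
  rw [rmum, map_mul, map_inv, map_mul, pull_pc, pull_pc, pull_pc, MonObj.comp_mul, lift_fst_assoc,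
    lift_snd_assoc, Category.id_comp, Category.assoc, IsMonHom.one_hom i, ← Hom.one_def, _root_.one_mul, pc_one,
    _root_.one_mul, mul_inv_cancel, pull_pull, ← Over.comp_left, lift_snd, Over.id_left] at h'
  rw [h, (show d = 1 from ((PicGrp.pullHom_id_apply _ d).symm.trans h'.symm)), map_one]

variable [IsProper A.hom] [GeometricallyIntegral A.hom] [IsProper B.hom] [GeometricallyIntegral B.hom]

/-- the closed subgroup where the restricted Mumford class is trivial -/
theorem exists_relLocus (c : PicLoc.PicSet A.left) (i : B ⟶ A) [IsMonHom i] :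
    ∃ (K : Over (Spec (CommRingCat.of k))) (_ : GrpObj K) (κ : K ⟶ A),
      IsMonHom κ ∧ IsClosedImmersion κ.left ∧
        ∀ (T : Over (Spec (CommRingCat.of k))), IsLocallyNoetherian T.left → ∀ z : T ⟶ A,
          (∃ w : T ⟶ K, w ≫ κ = z) ↔ rmum c i z = 1 := by
  obtain ⟨M, hM, hMc⟩ := PicGrp.exists_eq_cls (rmum c i (𝟙 A))
  obtain ⟨_, _, _⟩ := AVAmple.fibre_facts (A := B) (W := A)
  haveI : IsLocallyNoetherian A.left := LocallyOfFiniteType.isLocallyNoetherian A.hom
  obtain ⟨Z, emb, hemb, hZ⟩ := Groth.Agent.S19476.result (snd B A).left M (CurveRR.isFinLocFreeOfRank_one hM)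
  let K : Over (Spec (CommRingCat.of k)) := Over.mk (emb ≫ A.hom)
  let κ : K ⟶ A := Over.homMk emb
  have hκ : IsClosedImmersion κ.left := hemb
  have key : ∀ (T : Over (Spec (CommRingCat.of k))), IsLocallyNoetherian T.left → ∀ z : T ⟶ A,
      (∃ w : T ⟶ K, w ≫ κ = z) ↔ rmum c i z = 1 := by
    intro T hT z
    have hsq := (Groth.Agent.Assoc.isPullback_whiskerLeft (Z := B) z).flip
    let e := hsq.isoPullback
    have he1 : e.hom ≫ pullback.fst _ _ = (B ◁ z).left := hsq.isoPullback_hom_fst
    have he2 : e.hom ≫ pullback.snd _ _ = (snd B T).left := hsq.isoPullback_hom_snd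
    constructor
    · rintro ⟨w, hw⟩
      obtain ⟨N, hN, ⟨j⟩⟩ := (hZ T.left z.left hT).1 ⟨w.left, congr($(hw).left)⟩
      have hNi := ZeroSch.isInvertible_of_rankOne hN
      refine rmum_eq_one_of_pullback c i z (PicGrp.cls N hNi) ?_
      rw [← he2, ← pull_pull, pull_cls, show rmum c i z = rmum c i (z ≫ 𝟙 A) by rw [Category.comp_id],
        ← pull_rmum, ← he1, ← pull_pull, hMc, pull_cls]
      exact congrArg (pull e.hom) ((PicGrp.cls_eq_cls_iff _ _).2 ⟨j⟩)
    · intro h
      have h' : pull (pullback.fst (snd B A).left z.left) (PicGrp.cls M hM) =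
          pull (pullback.snd (snd B A).left z.left) 1 := by
        have hinj : ∀ a b, pull e.hom a = pull e.hom b → a = b := fun a b hab => by
          have := congrArg (pull e.inv) hab
          rwa [pull_pull, pull_pull, e.inv_hom_id, show pull (𝟙 (pullback (snd B A).left z.left)) a = a from
            PicGrp.pullHom_id_apply _ a, show pull (𝟙 (pullback (snd B A).left z.left)) b = b from
            PicGrp.pullHom_id_apply _ b] at this
        refine hinj _ _ ?_
        rw [pull_pull, he1, ← hMc, pull_rmum, Category.comp_id, h, map_one, map_one]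
      rw [pull_cls] at h'
      obtain ⟨N, hN, hN'⟩ := PicGrp.exists_eq_cls (1 : PicLoc.PicSet T.left)
      rw [hN', pull_cls, PicGrp.cls_eq_cls_iff] at h'
      obtain ⟨u', hu'⟩ := (hZ T.left z.left hT).2 ⟨N, CurveRR.isFinLocFreeOfRank_one hN, h'⟩
      exact ⟨Over.homMk u' (by
        show u' ≫ emb ≫ A.hom = T.hom
        rw [← Category.assoc, hu', Over.w z]), Over.OverMorphism.ext hu'⟩
  haveI : LocallyOfFiniteType K.hom := inferInstanceAs (LocallyOfFiniteType (emb ≫ A.hom))
  haveI : IsLocallyNoetherian K.left := LocallyOfFiniteType.isLocallyNoetherian K.hom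
  haveI : LocallyOfFiniteType (K ⊗ K).hom :=
    inferInstanceAs (LocallyOfFiniteType (pullback.fst K.hom K.hom ≫ K.hom))
  have hKK : IsLocallyNoetherian (K ⊗ K).left := LocallyOfFiniteType.isLocallyNoetherian (K ⊗ K).hom
  obtain ⟨d, hd⟩ := (key (K ⊗ K) hKK ((fst K K ≫ κ)⁻¹ * (snd K K ≫ κ))).2 (by
    rw [rmum_mul, rmum_inv, ((key _ hKK _).1 ⟨fst K K, rfl⟩), ((key _ hKK _).1 ⟨snd K K, rfl⟩), inv_one,
      _root_.one_mul])
  have hS : IsLocallyNoetherian (𝟙_ (Over (Spec (CommRingCat.of k)))).left :=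
    inferInstanceAs (IsLocallyNoetherian (Spec (CommRingCat.of k)))
  obtain ⟨hG, hκm⟩ := GrpField.SchImg.exists_grpObj_of_div κ
    ((key _ hS η[A]).2 (by
      rw [show (η[A] : 𝟙_ (Over (Spec (CommRingCat.of k))) ⟶ A) = 1 by
        rw [Hom.one_def, toUnit_unit, Category.id_comp], rmum_one]))
    fun T k₁ k₂ => ⟨lift k₁ k₂ ≫ d, by
      rw [Category.assoc, hd, MonObj.comp_mul, GrpObj.comp_inv, lift_fst_assoc, lift_snd_assoc]⟩
  exact ⟨K, hG, κ, hκm, hκ, key⟩

end Groth.Agent.AgIsog
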