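import Groth.Agent.AgIsog.RelLocus
import Groth.Agent.AVDeg.HomBC
import Groth.Agent.GrpLoc.BaseChange
import Groth.Agent.AgVanish.PhiSurj
import Groth.Prelude.Def_SGA7a

/-!
Points of the restricted Mumford locus over an algebraically closed field.
-/

set_option autoImplicit false
set_option backward.isDefEq.respectTransparency false
set_option backward.isDefEq.respectTransparency.types false
set_option linter.style.haveILetI false
set_option linter.unusedSectionVars false
set_option maxHeartbeats 1000000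
set_option synthInstance.maxHeartbeats 200000

universe u

open CategoryTheory CategoryTheory.Limits MonoidalCategory CartesianMonoidalCategory MonObj GrpObj AlgebraicGeometry
open scoped CategoryTheory.Obj

noncomputable section

namespace Groth.Agent.AgIsog

open W7Cube (pull pc pull_pc pull_pull pull_cls pc_one pc_id)
open AVDeg (specMap bcK)

attribute [local instance] W7Cube.law

variable {k : Type u} (Ω : Type u) [Field k] [Field Ω] [Algebra k Ω]
variable {A B : Over (Spec (CommRingCat.of k))}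

/-- the `Ω`-valued point -/
abbrev ptO : Over (Spec (CommRingCat.of k)) := Over.mk (specMap k Ω)

/-- the point of the base change over a point -/
def up (a : ptO (k := k) Ω ⟶ A) : 𝟙_ (Over (Spec (CommRingCat.of Ω))) ⟶ bcK k Ω A :=
  Over.homMk (pullback.lift a.left (𝟙 _) (by rw [Over.w a]; exact (Category.id_comp _).symm)) (pullback.lift_snd _ _ _)

/-- the point under a point of the base change -/
def down (a : 𝟙_ (Over (Spec (CommRingCat.of Ω))) ⟶ bcK k Ω A) : ptO (k := k) Ω ⟶ A :=
  Over.homMk (a.left ≫ pullback.fst A.hom (specMap k Ω)) (by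
    have hw : a.left ≫ pullback.snd A.hom (specMap k Ω) = 𝟙 _ := Over.w a
    show (a.left ≫ pullback.fst A.hom (specMap k Ω)) ≫ A.hom = specMap k Ω
    rw [Category.assoc, pullback.condition, ← Category.assoc, hw, Category.id_comp])

theorem up_down (a : 𝟙_ (Over (Spec (CommRingCat.of Ω))) ⟶ bcK k Ω A) : up Ω (down Ω a) = a :=
  Over.OverMorphism.ext (pullback.hom_ext (pullback.lift_fst _ _ _) ((pullback.lift_snd _ _ _).trans (Over.w a).symm))

theorem down_up (a : ptO (k := k) Ω ⟶ A) : down Ω (up Ω a) = a :=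
  Over.OverMorphism.ext (pullback.lift_fst _ _ _)

/-- the morphism under a morphism into the base change -/
def adj {Y : Over (Spec (CommRingCat.of Ω))} (f : Y ⟶ bcK k Ω A) : (Over.map (specMap k Ω)).obj Y ⟶ A :=
  ((Over.mapPullbackAdj (specMap k Ω)).homEquiv _ _).symm f

theorem adj_left {Y : Over (Spec (CommRingCat.of Ω))} (f : Y ⟶ bcK k Ω A) :
    (adj Ω f).left = f.left ≫ pullback.fst A.hom (specMap k Ω) := by
  simp [adj, Adjunction.homEquiv_counit]

theorem adj_mul [GrpObj A] {Y : Over (Spec (CommRingCat.of Ω))} (f g : Y ⟶ bcK k Ω A) :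
    adj Ω (f * g) = adj Ω f * adj Ω g := by
  refine (Equiv.symm_apply_eq _).2 ?_
  rw [Adjunction.homEquiv_unit, Functor.map_mul, MonObj.comp_mul, ← Adjunction.homEquiv_unit,
    ← Adjunction.homEquiv_unit]
  simp only [adj, Equiv.apply_symm_apply]

/-- the projection of the base change to the point -/
def toPt (Y : Over (Spec (CommRingCat.of Ω))) : (Over.map (specMap k Ω)).obj Y ⟶ ptO (k := k) Ω :=
  Over.homMk Y.hom rfl

/-- the base change of `B` maps to `B ⊗ Ω` -/
def eps' : (Over.map (specMap k Ω)).obj (bcK k Ω B) ⟶ B ⊗ ptO (k := k) Ω :=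
  lift (adj Ω (𝟙 (bcK k Ω B))) (toPt Ω _)

theorem eps'_inv : ∃ e : B ⊗ ptO (k := k) Ω ⟶ (Over.map (specMap k Ω)).obj (bcK k Ω B), e ≫ eps' Ω = 𝟙 _ := by
  refine ⟨Over.homMk (pullback.lift (fst B (ptO (k := k) Ω)).left (snd B (ptO (k := k) Ω)).left
    ((Over.w (fst B (ptO (k := k) Ω))).trans (Over.w (snd B (ptO (k := k) Ω))).symm)) ?_, ?_⟩
  · show pullback.lift _ _ _ ≫ pullback.snd B.hom (specMap k Ω) ≫ specMap k Ω = _
    rw [← Category.assoc, pullback.lift_snd]
    exact Over.w (snd B (ptO (k := k) Ω))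
  · refine CartesianMonoidalCategory.hom_ext _ _ ?_ ?_
    · rw [Category.assoc, eps', lift_fst, Category.id_comp]
      refine Over.OverMorphism.ext ?_
      rw [Over.comp_left, adj_left, Over.id_left, Category.id_comp]
      exact pullback.lift_fst _ _ _
    · rw [Category.assoc, eps', lift_snd, Category.id_comp]
      exact Over.OverMorphism.ext (pullback.lift_snd _ _ _)

variable [GrpObj A] [GrpObj B]

theorem isMonHom_bc (i : B ⟶ A) [IsMonHom i] : IsMonHom ((Over.pullback (specMap k Ω)).map i) :=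
  inferInstanceAs (IsMonHom ((Over.pullback (specMap k Ω)).map i))

/-- the restricted Mumford class at a point, on the base change -/
def rclass (c : PicLoc.PicSet A.left) (i : B ⟶ A) (z : ptO (k := k) Ω ⟶ A) : PicLoc.PicSet (bcK k Ω B).left :=
  pull (eps' Ω).left (rmum c i z)

theorem rmum_eq_one_of_rclass (c : PicLoc.PicSet A.left) (i : B ⟶ A) (z : ptO (k := k) Ω ⟶ A)
    (h : rclass Ω c i z = 1) : rmum c i z = 1 := by
  obtain ⟨e, he⟩ := eps'_inv (B := B) Ω
  have h1 := congrArg (pull e.left) h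
  rw [rclass, pull_pull, ← Over.comp_left, he, map_one, Over.id_left] at h1
  exact (PicGrp.pullHom_id_apply _ _).symm.trans h1

/-- the class of the base change -/
def bcCls (c : PicLoc.PicSet A.left) : PicLoc.PicSet (bcK k Ω A).left := pull (pullback.fst A.hom (specMap k Ω)) c

theorem pc_adj (c : PicLoc.PicSet A.left) {Y : Over (Spec (CommRingCat.of Ω))} (f : Y ⟶ bcK k Ω A) :
    (pull (adj Ω f).left c : PicLoc.PicSet Y.left) = pc (bcCls Ω c) f := by
  exact (congrArg (fun g : Y.left ⟶ A.left => pull g c) (adj_left Ω f)).trans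
    (pull_pull f.left (pullback.fst A.hom (specMap k Ω)) c).symm

/-- the restricted Mumford class at a point, as a translate of a class -/
theorem rclass_eq (c : PicLoc.PicSet A.left) (i : B ⟶ A) (z : ptO (k := k) Ω ⟶ A) :
    rclass Ω c i z = pc (bcCls Ω c) ((Over.pullback (specMap k Ω)).map i * (toUnit _ ≫ up Ω z)) *
        (pc (bcCls Ω c) ((Over.pullback (specMap k Ω)).map i))⁻¹ := by
  let i' := (Over.pullback (specMap k Ω)).map i
  let z' : bcK k Ω B ⟶ bcK k Ω A := toUnit _ ≫ up Ω z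
  have h1 : eps' Ω ≫ fst B (ptO (k := k) Ω) ≫ i = adj Ω i' := by
    rw [eps', lift_fst_assoc]
    refine Over.OverMorphism.ext ?_
    rw [Over.comp_left, adj_left, adj_left, Over.id_left, Category.id_comp]
    exact (GrpLoc.bc_fst _ i).symm
  have h2 : eps' Ω ≫ snd B (ptO (k := k) Ω) ≫ z = adj Ω z' := by
    rw [eps', lift_snd_assoc]
    refine Over.OverMorphism.ext ?_
    rw [Over.comp_left, adj_left]
    show _ = (_ ≫ pullback.lift z.left (𝟙 _) _) ≫ pullback.fst _ _
    rw [Category.assoc, pullback.lift_fst]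
    rfl
  have h3 : pc c (snd B (ptO (k := k) Ω) ≫ z) = 1 := by
    have h : pull z.left c = 1 := by
      obtain ⟨L, hL, rfl⟩ := PicGrp.exists_eq_cls c
      rw [pull_cls, PicGrp.cls_eq_one_iff]
      haveI : Subsingleton (Spec (CommRingCat.of Ω)) := inferInstanceAs (Subsingleton (PrimeSpectrum Ω))
      haveI : Nonempty (Spec (CommRingCat.of Ω)) := inferInstanceAs (Nonempty (PrimeSpectrum Ω))
      exact W7See.nonempty_iso_unit_of_subsingleton (P := Spec (CommRingCat.of Ω)) (PicLoc.isInvertible_pullback _ hL)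
    rw [pc, Over.comp_left, ← pull_pull, h, map_one]
  have h4 : eps' Ω ≫ ((fst B (ptO (k := k) Ω) ≫ i) * (snd B (ptO (k := k) Ω) ≫ z)) = adj Ω (i' * z') := by
    rw [adj_mul, MonObj.comp_mul, h1, h2]
  rw [rclass, rmum, h3, _root_.mul_one, map_mul, map_inv, pull_pc, pull_pc, h4, h1]
  exact congrArg₂ (fun a b => a * b⁻¹) (pc_adj Ω c _) (pc_adj Ω c _)

variable [IsProper A.hom] [GeometricallyIntegral A.hom] [IsProper B.hom] [GeometricallyIntegral B.hom]
variable [IsAlgClosed Ω]

theorem isAmple_bc {L : A.left.Modules} (hL : CohB1.IsAmple L) :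
    CohB1.IsAmple ((Scheme.Modules.pullback (pullback.fst A.hom (specMap k Ω))).obj L) := by
  haveI : IsAffineHom (pullback.fst A.hom (specMap k Ω)) := MorphismProperty.pullback_fst _ _ inferInstance
  exact TMul.isAmple_pullback_of_isAffineHom _ hL

theorem ample_restrict {L : A.left.Modules} (hL : CohB1.IsAmple L) (i : B ⟶ A) [IsClosedImmersion i.left] :
    CohB1.IsAmple ((Scheme.Modules.pullback ((Over.pullback (specMap k Ω)).map i).left).obj
      ((Scheme.Modules.pullback (pullback.fst A.hom (specMap k Ω))).obj L)) := by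
  haveI : IsClosedImmersion ((Over.pullback (specMap k Ω)).map i).left :=
    MorphismProperty.of_isPullback (GrpLoc.isPullback_bc (specMap k Ω) i) ‹_›
  exact TMul.isAmple_pullback_of_isAffineHom _ (isAmple_bc Ω hL)

theorem bcCls_cls {L : A.left.Modules} (hL : CohB1.IsAmple L) :
    bcCls Ω (PicGrp.cls L hL.1) = PicGrp.cls _ (isAmple_bc Ω hL).1 := pull_cls _ _ _

theorem rclass_mul (c : PicLoc.PicSet A.left) (i : B ⟶ A) (x y : ptO (k := k) Ω ⟶ A) :
    rclass Ω c i (x * y) = rclass Ω c i x * rclass Ω c i y := by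
  simp only [rclass, rmum_mul, map_mul]

theorem rclass_inv (c : PicLoc.PicSet A.left) (i : B ⟶ A) (x : ptO (k := k) Ω ⟶ A) :
    rclass Ω c i x⁻¹ = (rclass Ω c i x)⁻¹ := by
  simp only [rclass, rmum_inv, map_inv]

/-- every point is the sum of a point of the subvariety and a point of the locus -/
theorem exists_decomp {L : A.left.Modules} (hL : CohB1.IsAmple L) (i : B ⟶ A) [IsMonHom i]
    [IsClosedImmersion i.left] (a : ptO (k := k) Ω ⟶ A) :
    ∃ x : ptO (k := k) Ω ⟶ B, rmum (PicGrp.cls L hL.1) i (a * (x ≫ i)⁻¹) = 1 := by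
  haveI := isMonHom_bc Ω i
  have hB := ample_restrict Ω hL i
  let i' := (Over.pullback (specMap k Ω)).map i
  let c' := bcCls Ω (PicGrp.cls L hL.1)
  let cB := PicGrp.cls _ hB.1
  have hcB : pc c' i' = cB := by
    show pc (bcCls Ω _) _ = _
    rw [bcCls_cls Ω hL]
    exact pull_cls _ _ _
  let d := pc c' (i' * (toUnit _ ≫ up Ω a)) * cB⁻¹
  have hsq : ∀ x y : 𝟙_ (Over (Spec (CommRingCat.of Ω))) ⟶ bcK k Ω A,
      pc c' (i' * (toUnit _ ≫ (x * y))) * pc c' i' =
        pc c' (i' * (toUnit _ ≫ x)) * pc c' (i' * (toUnit _ ≫ y)) := by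
    intro x y
    have h := W7Cube.cube_rel c' i' (toUnit _ ≫ x) (toUnit _ ≫ y)
    rw [← MonObj.comp_mul, W7Cube.pc_const, W7Cube.pc_const, W7Cube.pc_const, _root_.mul_one, _root_.mul_one,
      _root_.mul_one, _root_.mul_assoc, ← MonObj.comp_mul] at h
    exact h
  obtain ⟨x, hx⟩ := AgVanish.exists_translate cB d (AVAmple.finite_fixing hB) (fun b => by
    have ht : ∀ w : 𝟙_ (Over (Spec (CommRingCat.of Ω))) ⟶ bcK k Ω A,
        (𝟙 (bcK k Ω B) * (toUnit _ ≫ b)) ≫ (i' * (toUnit _ ≫ w)) = i' * (toUnit _ ≫ ((b ≫ i') * w)) := by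
      intro w
      rw [MonObj.comp_mul, MonObj.mul_comp, Category.id_comp, MonObj.comp_mul, Category.assoc, ← Category.assoc _ _ w,
        toUnit_unique (_ ≫ toUnit _) (toUnit _), _root_.mul_assoc]
    have ht' : (𝟙 (bcK k Ω B) * (toUnit _ ≫ b)) ≫ i' = i' * (toUnit _ ≫ (b ≫ i')) := by
      rw [MonObj.mul_comp, Category.id_comp, Category.assoc]
    show pc d (𝟙 (bcK k Ω B) * (toUnit _ ≫ b)) = d
    have e : pc d (𝟙 (bcK k Ω B) * (toUnit _ ≫ b)) =
        pc c' (i' * (toUnit _ ≫ ((b ≫ i') * up Ω a))) * (pc c' (i' * (toUnit _ ≫ (b ≫ i'))))⁻¹ := by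
      show pull _ (pc c' _ * cB⁻¹) = _
      rw [map_mul, map_inv, pull_pc, ← hcB, pull_pc, ht, ht']
    rw [e, mul_inv_eq_iff_eq_mul, eq_mul_inv_of_mul_eq (hsq (b ≫ i') (up Ω a)), hcB]
    show _ = pc c' (i' * (toUnit _ ≫ up Ω a)) * cB⁻¹ * _
    ac_rfl)
  refine ⟨down Ω x, ?_⟩
  have hup : up Ω (down Ω x ≫ i) = x ≫ i' := Over.OverMorphism.ext (pullback.hom_ext
    (by
      show pullback.lift _ _ _ ≫ _ = (x.left ≫ i'.left) ≫ _
      rw [pullback.lift_fst, Category.assoc]
      show (x.left ≫ _) ≫ i.left = _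
      rw [Category.assoc]
      exact congrArg (x.left ≫ ·) (GrpLoc.bc_fst _ i).symm)
    ((pullback.lift_snd _ _ _).trans (Over.w (x ≫ i')).symm))
  have hxi : pc c' (i' * (toUnit _ ≫ (x ≫ i'))) = d * cB := by
    rw [← hx, ← hcB]
    refine Eq.trans ?_ (pull_pc c' (𝟙 _ * (toUnit _ ≫ x)) i').symm
    congr 1
    rw [MonObj.mul_comp, Category.id_comp, Category.assoc]
  have e1 : rclass Ω (PicGrp.cls L hL.1) i a = d := by
    rw [rclass_eq]
    show pc c' _ * (pc c' i')⁻¹ = d
    rw [hcB]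
  have e2 : rclass Ω (PicGrp.cls L hL.1) i (down Ω x ≫ i) = d := by
    rw [rclass_eq, hup]
    show pc c' (i' * _) * (pc c' i')⁻¹ = d
    rw [hxi, hcB, mul_inv_cancel_right]
  refine rmum_eq_one_of_rclass Ω _ _ _ ?_
  rw [rclass_mul, rclass_inv, e1, e2, mul_inv_cancel]

/-- finitely many points of the subvariety lie in the locus -/
theorem finite_kernel {L : A.left.Modules} (hL : CohB1.IsAmple L) (i : B ⟶ A) [IsMonHom i]
    [IsClosedImmersion i.left] :
    {x : ptO (k := k) Ω ⟶ B | rmum (PicGrp.cls L hL.1) i (x ≫ i) = 1}.Finite := by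
  haveI := isMonHom_bc Ω i
  have hB := ample_restrict Ω hL i
  let i' := (Over.pullback (specMap k Ω)).map i
  refine Set.Finite.of_finite_image (f := up Ω) ?_ (fun a _ b _ h => by rw [← down_up Ω a, h, down_up])
  refine (AVAmple.finite_fixing hB).subset ?_
  rintro _ ⟨x, hx, rfl⟩
  show pc _ _ = _
  have hup : up Ω (x ≫ i) = up Ω x ≫ i' := Over.OverMorphism.ext (pullback.hom_ext
    (by
      show pullback.lift _ _ _ ≫ _ = (pullback.lift _ _ _ ≫ i'.left) ≫ _
      rw [pullback.lift_fst, Category.assoc]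
      refine Eq.symm ((congrArg (pullback.lift _ _ _ ≫ ·) (GrpLoc.bc_fst _ i)).trans ?_)
      rw [← Category.assoc, pullback.lift_fst]
      rfl)
    ((pullback.lift_snd _ _ _).trans (Over.w (up Ω x ≫ i')).symm))
  have hx' := congrArg (pull (eps' Ω).left) hx
  change rclass Ω _ _ _ = _ at hx'
  rw [rclass_eq, hup, map_one, mul_inv_eq_one, bcCls_cls Ω hL] at hx'
  rw [← pull_cls _ _ (isAmple_bc Ω hL).1]
  show pull _ (pull _ _) = _
  rw [pull_pull, ← Over.comp_left]
  refine Eq.trans ?_ hx'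
  show pull _ _ = pull _ _
  congr 2
  rw [MonObj.mul_comp, Category.id_comp, Category.assoc]

end Groth.Agent.AgIsog
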