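import Groth.Agent.AgIsog.SimpleHom
import Groth.Prelude.Def_EndRing
import Groth.Agent.Intersect.Pos
import Mathlib.RingTheory.SimpleModule.Basic

/-!
Isogeny decomposition into simple factors, and semisimplicity of the rational endomorphism algebra.
-/

set_option autoImplicit false
set_option backward.isDefEq.respectTransparency false
set_option linter.style.haveILetI false
set_option linter.unusedSectionVars false
set_option maxHeartbeats 2000000
set_option synthInstance.maxHeartbeats 400000

universe u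

open CategoryTheory CategoryTheory.Limits MonoidalCategory CartesianMonoidalCategory MonObj GrpObj AlgebraicGeometry
open TopologicalSpace
open scoped TensorProduct

noncomputable section

namespace Groth.Agent.AgIsog

variable {k : Type u} [Field k]

/-- A decomposition of the identity, up to an integer, through simple abelian varieties. -/
structure Decomp (A : Over (Spec (CommRingCat.of k))) [GrpObj A] where
  idx : Type
  fin : Fintype idx
  N : idx → Over (Spec (CommRingCat.of k))
  grp : ∀ t, GrpObj (N t)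
  proper : ∀ t, IsProper (N t).hom
  geomInt : ∀ t, GeometricallyIntegral (N t).hom
  simple : ∀ t, IsSimpleAV (N t)
  p : ∀ t, A ⟶ N t
  q : ∀ t, N t ⟶ A
  p_hom : ∀ t, IsMonHom (p t)
  q_hom : ∀ t, IsMonHom (q t)
  n : ℕ
  hn : n ≠ 0
  self : ∀ t, q t ≫ p t = 𝟙 (N t) ^ n
  other : ∀ s t, s ≠ t → q t ≫ p s = 1
  total : ∀ [IsCommMonObj A], ∏ t, (p t ≫ q t) = 𝟙 A ^ n

theorem pow_id_comp {X Y : Over (Spec (CommRingCat.of k))} [GrpObj X] [GrpObj Y] (f : X ⟶ Y) [IsMonHom f] (n : ℕ) :
    (𝟙 X ^ n) ≫ f = f ^ n := by rw [MonObj.pow_comp, Category.id_comp]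

theorem comp_pow_id {X Y : Over (Spec (CommRingCat.of k))} [GrpObj Y] (f : X ⟶ Y) (n : ℕ) :
    f ≫ (𝟙 Y ^ n) = f ^ n := by rw [MonObj.comp_pow, Category.comp_id]

set_option backward.isDefEq.respectTransparency.types false in
theorem nonempty_decomp : ∀ (d : ℕ) (A : Over (Spec (CommRingCat.of k))) [GrpObj A] [IsProper A.hom]
    [GeometricallyIntegral A.hom], topologicalKrullDim A.left ≤ (d : WithBot ℕ∞) → Nonempty (Decomp A) := by
  classical
  intro d
  induction d using Nat.strong_induction_on with
  | _ d ih =>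
    intro A _ _ _ hA
    haveI : Subsingleton (Spec (CommRingCat.of k)) := inferInstanceAs (Subsingleton (PrimeSpectrum k))
    haveI : IsCommMonObj A := isCommMonObj_of_isProper_of_geometricallyIntegral A
    by_cases hs : IsSimpleAV A
    · exact ⟨{ idx := Unit, fin := inferInstance, N := fun _ => A, grp := fun _ => inferInstance,
               proper := fun _ => ‹_›, geomInt := fun _ => ‹_›, simple := fun _ => hs,
               p := fun _ => 𝟙 A, q := fun _ => 𝟙 A, p_hom := fun _ => inferInstance, q_hom := fun _ => inferInstance,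
               n := 1, hn := one_ne_zero, self := fun _ => by simp,
               other := fun s t h => absurd (Subsingleton.elim s t) h, total := by simp }⟩
    · simp only [IsSimpleAV, not_forall, not_or] at hs
      obtain ⟨B, hBg, hBi, i, hi, hic, hBns, hiiso⟩ := hs
      haveI : IsProper (i.left ≫ A.hom) := inferInstance
      haveI : IsProper B.hom := by rw [← Over.w i]; infer_instance
      haveI : IsIntegral A.left := GeometricallyIntegral.isIntegral_of_subsingleton A.hom
      obtain ⟨C, hCg, hCp, hCi, jC, hjm, hjc, f, hf, g, hg, m, hm, hif, hig, hjf, hjg, htot⟩ := exists_splitting i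
      haveI : IsCommMonObj B := isCommMonObj_of_isProper_of_geometricallyIntegral B
      haveI : IsCommMonObj C := isCommMonObj_of_isProper_of_geometricallyIntegral C
      have hlt : ∀ (D : Over (Spec (CommRingCat.of k))) (j : D ⟶ A) [IsClosedImmersion j.left], Nonempty D.left →
          ¬ IsIso j → ∃ e : ℕ, e < d ∧ topologicalKrullDim D.left ≤ (e : WithBot ℕ∞) := by
        intro D j _ _ hj
        have hr : Set.range j.left ≠ Set.univ := fun h => hj (by
          haveI : Surjective j.left := ⟨Set.range_eq_univ.1 h⟩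
          haveI : IsIso j.left := isIso_of_isClosedImmersion_of_surjective j.left
          haveI : IsIso ((Over.forget _).map j) := ‹IsIso j.left›
          exact isIso_of_reflects_iso j (Over.forget _))
        letI : A.left.Over (Spec (CommRingCat.of k)) := ⟨A.hom⟩
        haveI : IsProper (A.left ↘ Spec (CommRingCat.of k)) := ‹IsProper A.hom›
        haveI := CurveRR.isNoetherian_of_proper k A.left
        have h1 : topologicalKrullDim (Set.range j.left) < (d : WithBot ℕ∞) :=
          Intersect.dim_proper_lt (X := A.left) (ξ := genericPoint A.left) (by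
              rw [genericPoint_closure]
              exact Intersect.lt_succ_of_le' ((topologicalKrullDim_subspace_le A.left _).trans hA))
            j.left.isClosedEmbedding.isClosed_range (by rw [genericPoint_closure]; exact Set.subset_univ _)
            (fun h => hr (Set.eq_univ_of_univ_subset (by
              rw [← genericPoint_closure]
              exact closure_minimal (Set.singleton_subset_iff.2 h) j.left.isClosedEmbedding.isClosed_range)))
        rw [← j.left.isClosedEmbedding.isEmbedding.toHomeomorph.isHomeomorph.topologicalKrullDim_eq] at h1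
        rcases d with _ | d
        · exfalso
          haveI : Nonempty (IrreducibleCloseds D.left) :=
            ⟨⟨closure {Classical.arbitrary D.left}, isIrreducible_singleton.closure, isClosed_closure⟩⟩
          exact h1.not_ge (by rw [Nat.cast_zero]; exact Order.krullDim_nonneg)
        · exact ⟨d, Nat.lt_succ_self d, Intersect.le_of_lt_succ' h1⟩
      have hne : ∀ (D : Over (Spec (CommRingCat.of k))) [GrpObj D], Nonempty D.left := fun D _ =>
        ⟨η[D].left (IsLocalRing.closedPoint k : ↥(Spec (CommRingCat.of k)))⟩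
      obtain ⟨eB, heB, hdB⟩ := hlt B i (hne B) hiiso
      obtain ⟨eC, heC, hdC⟩ := hlt C jC (hne C) (fun hj => hBns (by
        haveI := hj
        have hf1 : f = 1 := by rw [← cancel_epi jC, hjf, MonObj.comp_one]
        rw [hf1, MonObj.comp_one] at hif
        haveI := Groth.Agent.S0383.result k B m (Nat.one_le_iff_ne_zero.2 hm)
        rw [← hif] at this
        rw [show (1 : B ⟶ B) = toUnit B ≫ η[B] from rfl, Over.comp_left] at this
        haveI : Surjective (η[B] : 𝟙_ (Over (Spec (CommRingCat.of k))) ⟶ B).left :=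
          Surjective.of_comp (toUnit B).left η[B].left
        haveI : Subsingleton (𝟙_ (Over (Spec (CommRingCat.of k)))).left := inferInstanceAs (Subsingleton (Spec (CommRingCat.of k)))
        exact (η[B] : 𝟙_ (Over (Spec (CommRingCat.of k))) ⟶ B).left.surjective.subsingleton))
      obtain ⟨DB⟩ := ih eB heB B hdB
      obtain ⟨DC⟩ := ih eC heC C hdC
      letI := DB.fin; letI := DC.fin
      letI := DB.grp; letI := DC.grp
      haveI := DB.proper; haveI := DC.proper
      haveI := DB.geomInt; haveI := DC.geomInt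
      haveI := fun t => isCommMonObj_of_isProper_of_geometricallyIntegral (DB.N t)
      haveI := fun t => isCommMonObj_of_isProper_of_geometricallyIntegral (DC.N t)
      haveI := DB.p_hom; haveI := DB.q_hom; haveI := DC.p_hom; haveI := DC.q_hom
      haveI := fun s => isMonHom_pow_id (A := DB.N s) DC.n
      haveI := fun s => isMonHom_pow_id (A := DC.N s) DB.n
      have hpB : ∀ s, IsMonHom (f ≫ DB.p s ≫ (𝟙 (DB.N s) ^ DC.n)) := fun s => inferInstance
      have hpC : ∀ s, IsMonHom (g ≫ DC.p s ≫ (𝟙 (DC.N s) ^ DB.n)) := fun s => inferInstance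
      have hqB : ∀ s, IsMonHom (DB.q s ≫ i) := fun s => inferInstance
      have hqC : ∀ s, IsMonHom (DC.q s ≫ jC) := fun s => inferInstance
      have hsB : ∀ s, (DB.q s ≫ i) ≫ f ≫ DB.p s ≫ (𝟙 (DB.N s) ^ DC.n) = 𝟙 (DB.N s) ^ (m * (DB.n * DC.n)) := by
        intro s
        rw [Category.assoc, ← Category.assoc i f, hif, ← Category.assoc, comp_pow_id, MonObj.pow_comp,
          comp_pow_id, MonObj.comp_pow, DB.self, ← pow_mul, ← pow_mul]
        congr 1
        ring
      have hsC : ∀ s, (DC.q s ≫ jC) ≫ g ≫ DC.p s ≫ (𝟙 (DC.N s) ^ DB.n) = 𝟙 (DC.N s) ^ (m * (DB.n * DC.n)) := by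
        intro s
        rw [Category.assoc, ← Category.assoc jC g, hjg, ← Category.assoc, comp_pow_id, MonObj.pow_comp,
          comp_pow_id, MonObj.comp_pow, DC.self, ← pow_mul, ← pow_mul]
        congr 1
        ring
      have hBB : ∀ s t, s ≠ t → (DB.q t ≫ i) ≫ f ≫ DB.p s ≫ (𝟙 (DB.N s) ^ DC.n) = 1 := by
        intro s t hst
        rw [Category.assoc, ← Category.assoc i f, hif, ← Category.assoc, comp_pow_id, MonObj.pow_comp,
          comp_pow_id, MonObj.comp_pow, DB.other s t hst, one_pow, one_pow]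
      have hCC : ∀ s t, s ≠ t → (DC.q t ≫ jC) ≫ g ≫ DC.p s ≫ (𝟙 (DC.N s) ^ DB.n) = 1 := by
        intro s t hst
        rw [Category.assoc, ← Category.assoc jC g, hjg, ← Category.assoc, comp_pow_id, MonObj.pow_comp,
          comp_pow_id, MonObj.comp_pow, DC.other s t hst, one_pow, one_pow]
      have hBC : ∀ s t, (DC.q t ≫ jC) ≫ f ≫ DB.p s ≫ (𝟙 (DB.N s) ^ DC.n) = 1 := fun s t => by
        rw [Category.assoc, ← Category.assoc jC f, hjf, MonObj.one_comp, MonObj.comp_one]
      have hCB : ∀ s t, (DB.q t ≫ i) ≫ g ≫ DC.p s ≫ (𝟙 (DC.N s) ^ DB.n) = 1 := fun s t => by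
        rw [Category.assoc, ← Category.assoc i g, hig, MonObj.one_comp, MonObj.comp_one]
      refine ⟨{ idx := DB.idx ⊕ DC.idx, fin := inferInstance,
                N := fun t => Sum.elim DB.N DC.N t,
                grp := fun t => match t with | .inl s => DB.grp s | .inr s => DC.grp s,
                proper := fun t => match t with | .inl s => DB.proper s | .inr s => DC.proper s,
                geomInt := fun t => match t with | .inl s => DB.geomInt s | .inr s => DC.geomInt s,
                simple := fun t => match t with | .inl s => DB.simple s | .inr s => DC.simple s,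
                p := fun t => match t with
                  | .inl s => f ≫ DB.p s ≫ (𝟙 (DB.N s) ^ DC.n : DB.N s ⟶ DB.N s)
                  | .inr s => g ≫ DC.p s ≫ (𝟙 (DC.N s) ^ DB.n : DC.N s ⟶ DC.N s),
                q := fun t => match t with
                  | .inl s => DB.q s ≫ i
                  | .inr s => DC.q s ≫ jC,
                p_hom := fun t => match t with | .inl s => hpB s | .inr s => hpC s,
                q_hom := fun t => match t with | .inl s => hqB s | .inr s => hqC s,
                n := m * (DB.n * DC.n), hn := mul_ne_zero hm (mul_ne_zero DB.hn DC.hn),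
                self := fun t => match t with | .inl s => hsB s | .inr s => hsC s,
                other := fun s t hst => match s, t, hst with
                  | .inl s, .inl t, h => hBB s t (fun e => h (congrArg Sum.inl e))
                  | .inl s, .inr t, _ => hBC s t
                  | .inr s, .inl t, _ => hCB s t
                  | .inr s, .inr t, h => hCC s t (fun e => h (congrArg Sum.inr e)),
                total := ?_ }⟩
      · intro _
        rw [Fintype.prod_sum_type]
        have hB' : ∏ s, (f ≫ DB.p s ≫ (𝟙 _ ^ DC.n)) ≫ DB.q s ≫ i = (f ≫ i) ^ (DB.n * DC.n) := by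
          have e1 : ∀ s, (f ≫ DB.p s ≫ (𝟙 _ ^ DC.n)) ≫ DB.q s ≫ i = f ≫ ((DB.p s ≫ DB.q s) ≫ i) ^ DC.n := fun s => by
            simp only [MonObj.pow_comp, MonObj.comp_pow, Category.assoc, Category.id_comp]
          simp only [e1]
          have hcomp : ∀ (φ : DB.idx → (B ⟶ B)), ∏ s, f ≫ (φ s ≫ i) ^ DC.n = (f ≫ (∏ s, φ s) ≫ i) ^ DC.n := fun φ => by
            let H : (B ⟶ B) →* (A ⟶ A) :=
              { toFun := fun x => f ≫ x ≫ i
                map_one' := by rw [MonObj.one_comp, MonObj.comp_one]
                map_mul' := fun x y => by rw [MonObj.mul_comp, MonObj.comp_mul] }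
            show _ = H (∏ s, φ s) ^ DC.n
            rw [map_prod, ← Finset.prod_pow]
            exact Finset.prod_congr rfl fun s _ => MonObj.comp_pow _ _ _
          rw [hcomp, DB.total, pow_id_comp, MonObj.comp_pow, ← pow_mul]
        have hC' : ∏ s, (g ≫ DC.p s ≫ (𝟙 _ ^ DB.n)) ≫ DC.q s ≫ jC = (g ≫ jC) ^ (DB.n * DC.n) := by
          have e1 : ∀ s, (g ≫ DC.p s ≫ (𝟙 _ ^ DB.n)) ≫ DC.q s ≫ jC = g ≫ ((DC.p s ≫ DC.q s) ≫ jC) ^ DB.n := fun s => by
            simp only [MonObj.pow_comp, MonObj.comp_pow, Category.assoc, Category.id_comp]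
          simp only [e1]
          have hcomp : ∀ (φ : DC.idx → (C ⟶ C)), ∏ s, g ≫ (φ s ≫ jC) ^ DB.n = (g ≫ (∏ s, φ s) ≫ jC) ^ DB.n := fun φ => by
            let H : (C ⟶ C) →* (A ⟶ A) :=
              { toFun := fun x => g ≫ x ≫ jC
                map_one' := by rw [MonObj.one_comp, MonObj.comp_one]
                map_mul' := fun x y => by rw [MonObj.mul_comp, MonObj.comp_mul] }
            show _ = H (∏ s, φ s) ^ DB.n
            rw [map_prod, ← Finset.prod_pow]
            exact Finset.prod_congr rfl fun s _ => MonObj.comp_pow _ _ _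
          rw [hcomp, DC.total, pow_id_comp, MonObj.comp_pow, ← pow_mul, _root_.mul_comm DC.n]
        refine (congrArg₂ (· * ·) hB' hC').trans ?_
        rw [← mul_pow, htot, ← pow_mul]

variable {A : Over (Spec (CommRingCat.of k))} [GrpObj A] [IsCommMonObj A] [IsProper A.hom] [GeometricallyIntegral A.hom]

theorem toEnd0_denom (x : EndAV.End0 A) :
    ∃ (n : ℕ) (f : EndAV.End A), n ≠ 0 ∧ x = (n : ℚ)⁻¹ • EndAV.toEnd0 f := by
  induction x using TensorProduct.induction_on with
  | zero => exact ⟨1, 0, one_ne_zero, by rw [map_zero, smul_zero]⟩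
  | tmul q f =>
    refine ⟨q.den, q.num • f, q.den_nz, ?_⟩
    rw [map_zsmul, EndAV.toEnd0_apply, ← Int.cast_smul_eq_zsmul ℚ, smul_smul, TensorProduct.smul_tmul', smul_eq_mul,
      _root_.mul_one, inv_mul_eq_div, Rat.num_div_den]
  | add a b ha hb =>
    obtain ⟨n, f, hn, rfl⟩ := ha
    obtain ⟨m, g, hm, rfl⟩ := hb
    refine ⟨n * m, m • f + n • g, mul_ne_zero hn hm, ?_⟩
    rw [map_add, map_nsmul, map_nsmul, ← Nat.cast_smul_eq_nsmul ℚ m, ← Nat.cast_smul_eq_nsmul ℚ n, smul_add, smul_smul,
      smul_smul, Nat.cast_mul]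
    have h1 : (n : ℚ) ≠ 0 := Nat.cast_ne_zero.2 hn
    have h2 : (m : ℚ) ≠ 0 := Nat.cast_ne_zero.2 hm
    congr 2 <;> field_simp

/-- The rational endomorphism algebra is semisimple. -/
theorem isSemisimpleRing_end0 : IsSemisimpleRing (EndAV.End0 A) := by
  classical
  obtain ⟨g, hg⟩ : ∃ g : ℕ, topologicalKrullDim A.left = (g : WithBot ℕ∞) := by
    haveI : Nonempty A.left := ⟨η[A].left (IsLocalRing.closedPoint k : ↥(Spec (CommRingCat.of k)))⟩
    exact AVDeg.exists_dim A
  obtain ⟨D⟩ := nonempty_decomp g A hg.le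
  letI := D.fin
  letI := D.grp
  haveI := D.proper
  haveI := D.geomInt
  haveI := D.p_hom
  haveI := D.q_hom
  haveI hNc := fun t => isCommMonObj_of_isProper_of_geometricallyIntegral (D.N t)
  let R := EndAV.End0 A
  let n : ℚ := D.n
  have hn : n ≠ 0 := Nat.cast_ne_zero.2 D.hn
  let E : D.idx → EndAV.End A := fun t => EndAV.End.of (D.p t ≫ D.q t)
  let e : D.idx → R := fun t => n⁻¹ • EndAV.toEnd0 (E t)
  have hnsmul : ∀ (j : ℕ) (x : EndAV.End A), EndAV.toEnd0 (j • x) = (j : ℚ) • EndAV.toEnd0 x := fun j x => by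
    rw [map_nsmul, Nat.cast_smul_eq_nsmul]
  have hEE : ∀ t, E t * E t = D.n • E t := fun t => EndAV.End.ext (by
    rw [EndAV.End.toHom_mul, EndAV.End.toHom_nsmul]
    show (D.p t ≫ D.q t) ≫ D.p t ≫ D.q t = _
    rw [Category.assoc, ← Category.assoc (D.q t), D.self, MonObj.pow_comp, Category.id_comp, MonObj.comp_pow]
    rfl)
  have hsum : ∑ t, E t = D.n • (1 : EndAV.End A) := EndAV.End.ext (by
    rw [EndAV.End.toHom_nsmul, EndAV.End.toHom_one, ← D.total]
    have hprod : ∀ s : Finset D.idx, EndAV.End.toHom (∑ t ∈ s, E t) = ∏ t ∈ s, D.p t ≫ D.q t := by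
      intro s
      induction s using Finset.induction_on with
      | empty => rfl
      | insert a s ha ih => rw [Finset.sum_insert ha, Finset.prod_insert ha, EndAV.End.toHom_add, ih]; rfl
    exact hprod Finset.univ)
  have he1 : ∑ t, e t = 1 := by
    show ∑ t, n⁻¹ • EndAV.toEnd0 (E t) = 1
    rw [← Finset.smul_sum, ← map_sum, hsum, hnsmul, map_one, smul_smul, inv_mul_cancel₀ hn, one_smul]
  have hee : ∀ t, e t * e t = e t := fun t => by
    show (n⁻¹ • _) * (n⁻¹ • _) = _
    rw [smul_mul_smul_comm, ← map_mul, hEE, hnsmul, smul_smul, mul_assoc n⁻¹, inv_mul_cancel₀ hn, _root_.mul_one]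
  have key : ∀ (t : D.idx) (x : R), x * e t = x → x ≠ 0 → e t ∈ Submodule.span R ({x} : Set R) := by
    intro t x hxe hx
    obtain ⟨s, hs⟩ : ∃ s, e s * x ≠ 0 := by
      by_contra h
      simp only [not_exists, not_not] at h
      exact hx (by rw [← _root_.one_mul x, ← he1, Finset.sum_mul, Finset.sum_eq_zero fun s _ => h s])
    obtain ⟨N, X, hN, rfl⟩ := toEnd0_denom x
    let h0 : D.N t ⟶ D.N s := D.q t ≫ X.toHom ≫ D.p s
    have hne : h0 ≠ 1 := fun h => hs (by
      rw [← hxe]
      show (n⁻¹ • _) * (((N : ℚ)⁻¹ • EndAV.toEnd0 X) * (n⁻¹ • EndAV.toEnd0 (E t))) = 0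
      rw [smul_mul_smul_comm, smul_mul_smul_comm, ← map_mul, ← map_mul,
        show E s * (X * E t) = 0 from EndAV.End.ext (by
          rw [EndAV.End.toHom_mul, EndAV.End.toHom_mul]
          show ((D.p t ≫ D.q t) ≫ X.toHom) ≫ D.p s ≫ D.q s = _
          rw [show ((D.p t ≫ D.q t) ≫ X.toHom) ≫ D.p s ≫ D.q s = D.p t ≫ h0 ≫ D.q s by
            simp only [h0, Category.assoc], h, MonObj.one_comp, MonObj.comp_one]
          rfl), map_zero, smul_zero])
    haveI : IsMonHom h0 := inferInstance
    obtain ⟨y, hy, d, hd, hy1, -⟩ := exists_inverse_of_simple (D.simple t) (D.simple s) h0 hne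
    let Y : EndAV.End A := EndAV.End.of (D.p s ≫ y ≫ D.q t)
    have hY : Y * (E s * (X * E t)) = (D.n * d) • E t := EndAV.End.ext (by
      rw [EndAV.End.toHom_mul, EndAV.End.toHom_mul, EndAV.End.toHom_mul, EndAV.End.toHom_nsmul]
      show (((D.p t ≫ D.q t) ≫ X.toHom) ≫ D.p s ≫ D.q s) ≫ D.p s ≫ y ≫ D.q t = _
      rw [show (((D.p t ≫ D.q t) ≫ X.toHom) ≫ D.p s ≫ D.q s) ≫ D.p s ≫ y ≫ D.q t =
        D.p t ≫ h0 ≫ (D.q s ≫ D.p s) ≫ y ≫ D.q t by simp only [h0, Category.assoc], D.self,
        MonObj.pow_comp, Category.id_comp, MonObj.comp_pow, ← Category.assoc h0 y, hy1, MonObj.pow_comp,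
        Category.id_comp, MonObj.comp_pow, MonObj.comp_pow, ← pow_mul, _root_.mul_comm d]
      rfl)
    have hc : ∃ c : ℚ, e t = c • (EndAV.toEnd0 (Y * E s) * (((N : ℚ)⁻¹ • EndAV.toEnd0 X) * e t)) := by
      refine ⟨(N : ℚ) * ((D.n * d : ℕ) : ℚ)⁻¹, ?_⟩
      show n⁻¹ • _ = _ • (_ * (_ * (n⁻¹ • _)))
      rw [smul_mul_smul_comm, mul_smul_comm, ← map_mul, ← map_mul, mul_assoc Y, hY, hnsmul, smul_smul, smul_smul]
      congr 1
      have h1 : (N : ℚ) ≠ 0 := Nat.cast_ne_zero.2 hN
      have h2 : ((D.n * d : ℕ) : ℚ) ≠ 0 := Nat.cast_ne_zero.2 (mul_ne_zero D.hn hd)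
      field_simp
    obtain ⟨c, hc⟩ := hc
    rw [hxe] at hc
    rw [hc, ← smul_mul_assoc]
    exact Submodule.smul_mem _ (c • EndAV.toEnd0 (Y * E s)) (Submodule.subset_span rfl)
  refine sSup_simples_eq_top_iff_isSemisimpleModule.1 (eq_top_iff.2 ?_)
  intro x _
  rw [← _root_.mul_one x, ← he1, Finset.mul_sum]
  refine Submodule.sum_mem _ fun t _ => ?_
  by_cases ht : e t = 0
  · rw [ht, mul_zero]; exact Submodule.zero_mem _
  have hsimp : IsSimpleModule R (Submodule.span R ({e t} : Set R)) := by
    rw [isSimpleModule_iff_isAtom]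
    refine ⟨fun h => ht ((Submodule.span_singleton_eq_bot).1 h), fun M hM => ?_⟩
    by_contra hne
    obtain ⟨z, hz, hz0⟩ := (Submodule.ne_bot_iff M).1 hne
    obtain ⟨r, rfl⟩ := Submodule.mem_span_singleton.1 (hM.le hz)
    refine hM.ne (le_antisymm hM.le (Submodule.span_le.2 (Set.singleton_subset_iff.2 ?_)))
    have := key t (r • e t) (by rw [smul_eq_mul, _root_.mul_assoc, hee]) hz0
    exact Submodule.span_le.2 (Set.singleton_subset_iff.2 hz) this
  exact le_sSup (α := Submodule R R) hsimp (Submodule.mem_span_singleton.2 ⟨x, rfl⟩)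

end Groth.Agent.AgIsog
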