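import Groth.Agent.AgIsog.Splitting
import Groth.Agent.AgVanish.Kernel
import Groth.Agent.TMul.AmpleProd
import Groth.Agent.AVDeg.Torsion

/-!
Nonzero homomorphisms between simple abelian varieties are isogenies.
-/

set_option autoImplicit false
set_option backward.isDefEq.respectTransparency false
set_option backward.isDefEq.respectTransparency.types false
set_option linter.style.haveILetI false
set_option linter.unusedSectionVars false
set_option maxHeartbeats 1000000
set_option synthInstance.maxHeartbeats 200000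

universe u

open CategoryTheory CategoryTheory.Limits MonoidalCategory CartesianMonoidalCategory MonObj GrpObj AlgebraicGeometry
open TopologicalSpace
open scoped CategoryTheory.Obj

noncomputable section

namespace Groth.Agent.AgIsog

open W7Cube (pull pc pull_pc pull_pull pull_cls)
open AVDeg (specMap bcK)

attribute [local instance] W7Cube.law

variable {k : Type u} [Field k]

/-- Simple abelian varieties. -/
def IsSimpleAV (A : Over (Spec (CommRingCat.of k))) [GrpObj A] : Prop :=
  ∀ (B : Over (Spec (CommRingCat.of k))) [GrpObj B] [GeometricallyIntegral B.hom] (i : B ⟶ A) [IsMonHom i]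
      [IsClosedImmersion i.left], Subsingleton B.left ∨ IsIso i

/-- An ample class on the product with the product form. -/
theorem exists_ample_prod {B C : Over (Spec (CommRingCat.of k))} [IsProper B.hom] [IsProper C.hom]
    {LB : B.left.Modules} (hB : CohB1.IsAmple LB) {LC : C.left.Modules} (hC : CohB1.IsAmple LC) :
    ∃ (L : (B ⊗ C).left.Modules) (hL : CohB1.IsAmple L),
      PicGrp.cls L hL.1 = pull (fst B C).left (PicGrp.cls LB hB.1) * pull (snd B C).left (PicGrp.cls LC hC.1) := by
  let j : pullback B.hom C.hom ⟶ pullback (terminal.from B.left) (terminal.from C.left) :=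
    pullback.mapDesc B.hom C.hom (terminal.from (Spec (CommRingCat.of k))) ≫
      (pullback.congrHom (terminal.hom_ext _ _) (terminal.hom_ext _ _)).hom
  haveI : IsClosedImmersion j := inferInstance
  have h := TMul.isAmple_pullback_of_isAffineHom j (TMul.isAmple_ext_prod hB hC)
  refine ⟨_, h, ?_⟩
  obtain ⟨e⟩ := TMul.nonempty_pullExtIso j (pullback.fst (terminal.from B.left) (terminal.from C.left))
    (pullback.snd _ _) (fst B C).left (snd B C).left (by simp [j, pullback.congrHom, pullback.mapDesc]) (by simp [j, pullback.congrHom, pullback.mapDesc]) LB LC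
  rw [pull_cls, pull_cls]
  exact ((PicGrp.cls_eq_cls_iff _ (TMul.isInvertible_tensorMod (PicLoc.isInvertible_pullback _ hB.1)
    (PicLoc.isInvertible_pullback _ hC.1))).2 ⟨e⟩).trans (Subtype.ext (PicGrp.cls_mul_cls_val _ _).symm)

variable {B C : Over (Spec (CommRingCat.of k))} [GrpObj B] [GrpObj C]
variable [IsProper B.hom] [GeometricallyIntegral B.hom] [IsProper C.hom] [GeometricallyIntegral C.hom]

/-- A surjection onto a nontrivial abelian variety has a nonzero homomorphism backwards. -/
theorem exists_reverse (f : B ⟶ C) [IsMonHom f] [Surjective f.left] (hC : ¬ Subsingleton C.left) :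
    ∃ (s : C ⟶ B) (_ : IsMonHom s), s ≠ 1 := by
  haveI : IsCommMonObj B := isCommMonObj_of_isProper_of_geometricallyIntegral B
  haveI : IsCommMonObj C := isCommMonObj_of_isProper_of_geometricallyIntegral C
  haveI : Subsingleton (Spec (CommRingCat.of k)) := inferInstanceAs (Subsingleton (PrimeSpectrum k))
  obtain ⟨LB, hLB⟩ := exists_ample B
  obtain ⟨LC, hLC⟩ := exists_ample C
  obtain ⟨L, hL, hLc⟩ := exists_ample_prod hLB hLC
  haveI : IsProper (B ⊗ C).hom := inferInstanceAs (IsProper (pullback.fst B.hom C.hom ≫ B.hom))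
  haveI : GeometricallyIntegral (B ⊗ C).hom :=
    W7Cube.geometricallyIntegral_prod (IsPullback.of_hasPullback B.hom C.hom) (B ⊗ C).hom rfl
  let i : B ⟶ B ⊗ C := lift (𝟙 B) f
  haveI : IsClosedImmersion (i.left ≫ (fst B C).left) := by
    rw [← Over.comp_left, lift_fst, Over.id_left]; infer_instance
  haveI : IsSeparated (fst B C).left := inferInstanceAs (IsSeparated (pullback.fst B.hom C.hom))
  haveI : IsClosedImmersion i.left := IsClosedImmersion.of_comp i.left (fst B C).left
  obtain ⟨r, hr, m, hm, -, hrel⟩ := exists_retraction_pow' hL i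
  let inr : C ⟶ B ⊗ C := lift 1 (𝟙 C)
  refine ⟨inr ≫ r, inferInstance, fun hs => hC ?_⟩
  let Ω := AlgebraicClosure k
  let CΩ := bcK k Ω C
  let BΩ := bcK k Ω B
  let c' := bcCls Ω (PicGrp.cls LC hLC.1)
  let f' := (Over.pullback (specMap k Ω)).map f
  haveI : IsMonHom f' := isMonHom_bc Ω f
  have key : ∀ d : ptO (k := k) Ω ⟶ C, rmum (PicGrp.cls LC hLC.1) f (d ^ m) = 1 := by
    intro d
    have h := hrel (ptO (k := k) Ω) (inferInstanceAs (IsLocallyNoetherian (Spec (CommRingCat.of Ω)))) (d ≫ inr)
    rw [Category.assoc, ← Category.assoc inr r i, hs, MonObj.one_comp, MonObj.comp_one, inv_one,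
      _root_.mul_one] at h
    rw [show (d ≫ inr) ^ m = lift 1 (d ^ m) by
      refine CartesianMonoidalCategory.hom_ext _ _ ?_ ?_
      · rw [MonObj.pow_comp, Category.assoc, lift_fst, lift_fst, MonObj.comp_one, one_pow]
      · rw [MonObj.pow_comp, Category.assoc, lift_snd, lift_snd, Category.comp_id]] at h
    have hpc : ∀ {V : Over (Spec (CommRingCat.of k))} (a : V ⟶ B ⊗ C), pc (PicGrp.cls L hL.1) a =
        pc (PicGrp.cls LB hLB.1) (a ≫ fst B C) * pc (PicGrp.cls LC hLC.1) (a ≫ snd B C) := by
      intro V a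
      rw [pc, hLc, map_mul, pull_pull, pull_pull, ← Over.comp_left, ← Over.comp_left]
      rfl
    rw [rmum, hpc, hpc, hpc] at h
    simp only [i, MonObj.mul_comp, Category.assoc, lift_fst, lift_snd, Category.comp_id,
      MonObj.comp_one, _root_.mul_one, W7Cube.pc_one] at h
    rw [_root_.one_mul] at h
    rw [rmum]
    refine Eq.trans ?_ h
    apply Additive.ofMul.injective
    simp only [ofMul_mul, ofMul_inv]
    abel
  haveI : Surjective f'.left :=
    MorphismProperty.of_isPullback (GrpLoc.isPullback_bc (specMap k Ω) f) ‹Surjective f.left›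
  haveI : LocallyOfFiniteType BΩ.hom := inferInstance
  have hfix : ∀ x : 𝟙_ (Over (Spec (CommRingCat.of Ω))) ⟶ BΩ,
      pc (pc c' f') (𝟙 BΩ * (toUnit BΩ ≫ (x ^ m))) = pc c' f' := by
    intro x
    have h := key (down Ω (x ≫ f'))
    have h' := congrArg (pull (eps' Ω).left) h
    rw [map_one] at h'
    change rclass Ω _ _ _ = _ at h'
    rw [rclass_eq, mul_inv_eq_one] at h'
    have hup : up Ω (down Ω (x ≫ f') ^ m) = (x ≫ f') ^ m := by
      rw [← up_down Ω ((x ≫ f') ^ m)]
      congr 1
      refine Over.OverMorphism.ext ?_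
      show _ = ((x ≫ f') ^ m).left ≫ pullback.fst C.hom (specMap k Ω)
      clear h h'
      generalize x ≫ f' = y
      let toP : ptO (k := k) Ω ⟶ (Over.map (specMap k Ω)).obj (𝟙_ (Over (Spec (CommRingCat.of Ω)))) :=
        Over.homMk (𝟙 _) (Category.id_comp _)
      have hd : ∀ w : 𝟙_ (Over (Spec (CommRingCat.of Ω))) ⟶ CΩ, down Ω w = toP ≫ adj Ω w := fun w => by
        refine Over.OverMorphism.ext ?_
        rw [Over.comp_left, adj_left]
        exact (Category.id_comp _).symm
      have hp : ∀ n : ℕ, down Ω y ^ n = down Ω (y ^ n) := by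
        intro n
        induction n with
        | zero =>
          have h1 : down Ω (1 : 𝟙_ (Over (Spec (CommRingCat.of Ω))) ⟶ CΩ) * down Ω (1 : _ ⟶ CΩ) = down Ω (1 : _ ⟶ CΩ) := by
            rw [hd, ← MonObj.comp_mul, ← adj_mul, _root_.one_mul]
          rw [pow_zero, pow_zero]
          exact (mul_eq_left.1 h1).symm
        | succ n ih => rw [pow_succ, pow_succ, ih, hd, hd, hd, ← MonObj.comp_mul, ← adj_mul]
      exact congrArg CommaMorphism.left (hp m)
    rw [hup] at h'
    refine Eq.trans ?_ h'
    rw [pc, pull_pc]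
    congr 1
    rw [MonObj.mul_comp, Category.id_comp, Category.assoc, MonObj.pow_comp]
  have hfin := AgVanish.finite_image_fixing f' (isAmple_bc Ω hLC)
  haveI hS : Finite (𝟙_ (Over (Spec (CommRingCat.of Ω))) ⟶ CΩ) := by
    refine Set.finite_univ_iff.1 (hfin.subset fun z _ => ?_)
    haveI := AVDeg.isIntegral_av CΩ
    obtain ⟨w, hw⟩ := AVDeg.exists_point_comp f' z
    obtain ⟨x, rfl⟩ := AVDeg.exists_pow_eq hm w
    refine ⟨x ^ m, ?_, hw⟩
    have := hfix x
    rw [show c' = PicGrp.cls _ (isAmple_bc Ω hLC).1 from bcCls_cls Ω hLC] at this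
    exact this
  haveI : JacobsonSpace CΩ.left := LocallyOfFiniteType.jacobsonSpace CΩ.hom
  have hcl : (closedPoints CΩ.left).Finite :=
    (Set.finite_range fun z : 𝟙_ (Over (Spec (CommRingCat.of Ω))) ⟶ CΩ => z.left (IsLocalRing.closedPoint Ω)).subset
      fun y hy => AVAmple.exists_point hy
  have huniv : closedPoints CΩ.left = Set.univ := by
    rw [← closure_closedPoints]
    refine (IsClosed.closure_eq ?_).symm
    rw [← Set.biUnion_of_singleton (closedPoints CΩ.left)]
    exact hcl.isClosed_biUnion fun y hy => hy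
  haveI := AVDeg.isIntegral_av CΩ
  have hsub : Subsingleton CΩ.left := ⟨fun a b => by
    have hg : ∀ y : CΩ.left, y = genericPoint CΩ.left := fun y => by
      have hy : IsClosed ({genericPoint CΩ.left} : Set CΩ.left) := (huniv.ge trivial : _ ∈ closedPoints _)
      have := (genericPoint_spec CΩ.left).def
      rw [hy.closure_eq] at this
      exact (this.ge trivial : y ∈ ({genericPoint CΩ.left} : Set CΩ.left))
    exact (hg a).trans (hg b).symm⟩
  haveI : Surjective (specMap k Ω) :=
    ⟨fun _ => ⟨IsLocalRing.closedPoint Ω, Subsingleton.elim (α := PrimeSpectrum k) _ _⟩⟩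
  haveI : Surjective (pullback.fst C.hom (specMap k Ω)) := inferInstance
  haveI : Subsingleton ↥(pullback C.hom (specMap k Ω)) := hsub
  exact (pullback.fst C.hom (specMap k Ω)).surjective.subsingleton

/-- A nonzero homomorphism to a simple abelian variety is surjective. -/
theorem surjective_of_simple (hC : IsSimpleAV C) (f : B ⟶ C) [IsMonHom f] (hf : f ≠ 1) :
    Surjective f.left ∧ ¬ Subsingleton C.left := by
  obtain ⟨K, hK, i, g, hi, -, hgi, hcl, hint, hsurj, hns⟩ := exists_image_nontrivial f hf
  haveI : IsIso i := (hC K i).resolve_left hns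
  haveI : IsIso i.left := (Over.forget _).map_isIso i
  refine ⟨?_, fun h => hns i.left.isClosedEmbedding.injective.subsingleton⟩
  rw [← hgi, Over.comp_left]
  infer_instance

/-- Nonzero homomorphisms between simple abelian varieties are isogenies. -/
theorem exists_inverse_of_simple (hB : IsSimpleAV B) (hC : IsSimpleAV C) (f : B ⟶ C) [IsMonHom f] (hf : f ≠ 1) :
    ∃ (y : C ⟶ B) (_ : IsMonHom y) (d : ℕ), d ≠ 0 ∧ f ≫ y = 𝟙 B ^ d ∧ y ≫ f = 𝟙 C ^ d := by
  haveI : IsCommMonObj B := isCommMonObj_of_isProper_of_geometricallyIntegral B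
  haveI : Subsingleton (Spec (CommRingCat.of k)) := inferInstanceAs (Subsingleton (PrimeSpectrum k))
  haveI : IsIntegral B.left := GeometricallyIntegral.isIntegral_of_subsingleton B.hom
  haveI : IsIntegral C.left := GeometricallyIntegral.isIntegral_of_subsingleton C.hom
  obtain ⟨hfs, hCn⟩ := surjective_of_simple hC f hf
  haveI := hfs
  obtain ⟨s, hs, hs1⟩ := exists_reverse f hCn
  haveI := (surjective_of_simple hB s hs1).1
  haveI : Surjective (f ≫ s).left := by rw [Over.comp_left]; infer_instance
  obtain ⟨g, hg, d, hd, h1, h2⟩ := exists_quasiInverse (f ≫ s)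
  haveI : IsProper (f.left ≫ C.hom) := by rw [Over.w f]; infer_instance
  haveI : IsProper f.left := IsProper.of_comp f.left C.hom
  haveI : Flat f.left := GrpField.flat_of_surjective f
  haveI := Flat.epi_of_flat_of_surjective f.left
  haveI : Epi f := Over.epi_of_epi_left f
  refine ⟨s ≫ g, inferInstance, d, hd, by rw [← Category.assoc]; exact h1, ?_⟩
  rw [← cancel_epi f, ← Category.assoc, ← Category.assoc f s g, h1, MonObj.pow_comp,
    Category.id_comp, MonObj.comp_pow, Category.comp_id]

end Groth.Agent.AgIsog
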