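import Groth.Agent.AgIsog.Reducibility
import Groth.Agent.S1866
import Groth.Agent.S0383
import Groth.Agent.Intersect.Apps
import Groth.Agent.W7Cube.Cube

/-!
The splitting of an abelian variety along an abelian subvariety, up to multiplication by an integer.
-/

set_option autoImplicit false
set_option backward.isDefEq.respectTransparency false
set_option backward.isDefEq.respectTransparency.types false
set_option linter.style.haveILetI false
set_option linter.unusedSectionVars false
set_option maxHeartbeats 1000000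
set_option synthInstance.maxHeartbeats 200000

universe u

open CategoryTheory CategoryTheory.Limits MonoidalCategory CartesianMonoidalCategory MonObj GrpObj AlgebraicGeometry

noncomputable section

namespace Groth.Agent.AgIsog

variable {K : Type u} [Field K]

theorem exists_ample (A : Over (Spec (CommRingCat.of K))) [GrpObj A] [IsProper A.hom] [GeometricallyIntegral A.hom] :
    ∃ L : A.left.Modules, CohB1.IsAmple L := by
  obtain ⟨n, j, hj, -⟩ := Groth.Agent.S1866.result K A
  haveI := hj
  exact ⟨_, TMul.isAmple_pullback_of_isAffineHom j (Groth.Agent.Intersect.isAmple_twistProj_one n K)⟩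

/-- An abelian subvariety splits off up to isogeny. -/
theorem exists_splitting {A B : Over (Spec (CommRingCat.of K))} [GrpObj A] [IsProper A.hom]
    [GeometricallyIntegral A.hom] [GrpObj B] [IsProper B.hom] [GeometricallyIntegral B.hom]
    (i : B ⟶ A) [IsMonHom i] [IsClosedImmersion i.left] :
    ∃ (C : Over (Spec (CommRingCat.of K))) (_ : GrpObj C) (_ : IsProper C.hom) (_ : GeometricallyIntegral C.hom)
      (jC : C ⟶ A) (_ : IsMonHom jC) (_ : IsClosedImmersion jC.left) (f : A ⟶ B) (_ : IsMonHom f)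
      (g : A ⟶ C) (_ : IsMonHom g) (m : ℕ), m ≠ 0 ∧ i ≫ f = 𝟙 B ^ m ∧ i ≫ g = 1 ∧ jC ≫ f = 1 ∧
        jC ≫ g = 𝟙 C ^ m ∧ (f ≫ i) * (g ≫ jC) = 𝟙 A ^ m := by
  haveI : IsCommMonObj A := isCommMonObj_of_isProper_of_geometricallyIntegral A
  haveI : IsCommMonObj B := isCommMonObj_of_isProper_of_geometricallyIntegral B
  haveI : Subsingleton (Spec (CommRingCat.of K)) := inferInstanceAs (Subsingleton (PrimeSpectrum K))
  haveI : IsIntegral A.left := GeometricallyIntegral.isIntegral_of_subsingleton A.hom
  obtain ⟨L, hL⟩ := exists_ample A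
  obtain ⟨f, hf, m, hm, hif⟩ := exists_retraction_pow hL i
  haveI hmA : IsMonHom (𝟙 A ^ m : A ⟶ A) := isMonHom_pow_id m
  let e : A ⟶ A := 𝟙 A ^ m * (f ≫ i)⁻¹
  haveI : IsMonHom (f ≫ i)⁻¹ := by
    rw [← zpow_neg_one]
    exact AVDeg.isMonHom_zpow _ _
  haveI : IsMonHom e := MaxAb.isMonHom_mul _ _
  haveI : IsProper (e.left ≫ A.hom) := by rw [Over.w e]; infer_instance
  haveI : IsProper e.left := IsProper.of_comp e.left A.hom
  obtain ⟨C, hC, jC, g, hjm, hgm, hgj, hjc, hdom, hqc, hsurj⟩ := GrpField.SchImg.exists_image e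
  haveI := hjc
  haveI := hdom
  haveI := hqc
  haveI := hsurj
  haveI : GeometricallyIntegral C.hom := geometricallyIntegral_of_schDom g
  haveI : IsProper (jC.left ≫ A.hom) := inferInstance
  haveI : IsProper C.hom := by rw [← Over.w jC]; infer_instance
  haveI : IsIntegral C.left := GeometricallyIntegral.isIntegral_of_subsingleton C.hom
  haveI : Flat g.left := GrpField.flat_of_surjective g
  haveI := Flat.epi_of_flat_of_surjective g.left
  haveI : Epi g := Over.epi_of_epi_left g
  haveI : Mono jC := Over.mono_of_mono_left jC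
  have hef : e ≫ f = 1 := by
    show (𝟙 A ^ m * (f ≫ i)⁻¹) ≫ f = 1
    rw [MonObj.mul_comp, MonObj.pow_comp, GrpObj.inv_comp, Category.id_comp, Category.assoc, hif,
      MonObj.comp_pow, Category.comp_id, mul_inv_cancel]
  have hjf : jC ≫ f = 1 := by
    rw [← cancel_epi g, ← Category.assoc, hgj, hef, MonObj.comp_one]
  have hie : i ≫ e = 1 := by
    show i ≫ (𝟙 A ^ m * (f ≫ i)⁻¹) = 1
    rw [MonObj.comp_mul, MonObj.comp_pow, GrpObj.comp_inv, Category.comp_id, ← Category.assoc, hif,
      MonObj.pow_comp, Category.id_comp, mul_inv_cancel]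
  refine ⟨C, hC, ‹_›, ‹_›, jC, hjm, hjc, f, hf, g, hgm, m, hm, hif, ?_, hjf, ?_, ?_⟩
  · rw [← cancel_mono jC, Category.assoc, hgj, hie, MonObj.one_comp]
  · rw [← cancel_mono jC, Category.assoc, hgj, MonObj.pow_comp, Category.id_comp]
    show jC ≫ (𝟙 A ^ m * (f ≫ i)⁻¹) = _
    rw [MonObj.comp_mul, MonObj.comp_pow, GrpObj.comp_inv, Category.comp_id, ← Category.assoc jC f i, hjf,
      MonObj.one_comp, inv_one, _root_.mul_one]
  · rw [hgj]
    show (f ≫ i) * (𝟙 A ^ m * (f ≫ i)⁻¹) = _
    rw [mul_comm, inv_mul_cancel_right]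

end Groth.Agent.AgIsog
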